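import Cfsg.Agent.Helper6.ConjChar
import Cfsg.Agent.Helper2.CharBound
import Cfsg.Agent.Helper2.CharLinear
import Cfsg.Agent.Helper2.CharDecomp
import Cfsg.Agent.Helper24.LinearChar

set_option autoImplicit false

namespace Cfsg.Agent.Helper6

open Cfsg
open scoped ComplexConjugate

section LinExt

/-- A set of natural numbers closed under addition, periodic modulo a member `m`, and containing
for each prime divisor of `m` an element not divisible by it, contains `1`. -/
theorem one_mem_of_add_closed (S : Set ℕ) (m : ℕ) (hm : 0 < m) (hmS : m ∈ S)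
    (hadd : ∀ a b, a ∈ S → b ∈ S → a + b ∈ S) (hper : ∀ t, t + m ∈ S → t ∈ S)
    (hp : ∀ p : ℕ, p.Prime → p ∣ m → ∃ t ∈ S, ¬ p ∣ t) : 1 ∈ S := by
  classical
  have hmul : ∀ k : ℕ, ∀ a ∈ S, (k + 1) * a ∈ S := by
    intro k
    induction k with
    | zero => intro a ha; simpa using ha
    | succ k ih =>
      intro a ha
      have := hadd _ _ (ih a ha) ha
      have e : (k + 1 + 1) * a = (k + 1) * a + a := by ring
      rw [e]
      exact this
  have hper' : ∀ k t : ℕ, t + k * m ∈ S → t ∈ S := by
    intro k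
    induction k with
    | zero => intro t ht; simpa using ht
    | succ k ih =>
      intro t ht
      apply ih
      apply hper
      have e : t + k * m + m = t + (k + 1) * m := by ring
      rw [e]
      exact ht
  have hsub : ∀ a b : ℕ, a ∈ S → b ∈ S → b < a → a - b ∈ S := by
    intro a b ha hb hlt
    apply hper' b
    obtain ⟨j, rfl⟩ : ∃ j, m = j + 1 := ⟨m - 1, by omega⟩
    rcases Nat.eq_zero_or_pos j with rfl | hj
    · have e : a - b + b * (0 + 1) = a := by
        rw [zero_add, mul_one]; omega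
      rw [e]
      exact ha
    · obtain ⟨i, rfl⟩ : ∃ i, j = i + 1 := ⟨j - 1, by omega⟩
      have h1 := hadd _ _ ha (hmul i b hb)
      have e : a - b + b * (i + 1 + 1) = a + (i + 1) * b := by
        have : a - b + b = a := by omega
        calc a - b + b * (i + 1 + 1) = (a - b + b) + (i + 1) * b := by ring
          _ = a + (i + 1) * b := by rw [this]
      rw [e]
      exact h1
  have hex : ∃ r, 0 < r ∧ r ∈ S := ⟨m, hm, hmS⟩
  obtain ⟨hrpos, hrS⟩ := Nat.find_spec hex
  have hrmin : ∀ t, 0 < t → t ∈ S → Nat.find hex ≤ t := fun t h1 h2 => Nat.find_min' hex ⟨h1, h2⟩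
  have hdvd : ∀ t, t ∈ S → Nat.find hex ∣ t := by
    intro t
    induction t using Nat.strong_induction_on with
    | _ t ih =>
      intro ht
      rcases Nat.eq_zero_or_pos t with rfl | htpos
      · exact dvd_zero _
      · have hle := hrmin t htpos ht
        rcases Nat.lt_or_ge (Nat.find hex) t with hlt | hge
        · have h1 := hsub t (Nat.find hex) ht hrS hlt
          have h2 := ih (t - Nat.find hex) (by omega) h1
          have : t = (t - Nat.find hex) + Nat.find hex := by omega
          rw [this]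
          exact dvd_add h2 (dvd_refl _)
        · have : t = Nat.find hex := le_antisymm hge hle
          rw [this]
  by_cases hr1 : Nat.find hex = 1
  · rw [← hr1]; exact hrS
  · exfalso
    obtain ⟨p, hpp, hpr⟩ := Nat.exists_prime_and_dvd hr1
    obtain ⟨t, htS, hpt⟩ := hp p hpp (hpr.trans (hdvd m hmS))
    exact hpt (hpr.trans (hdvd t htS))

variable {G : Type*} [Group G] [Fintype G]

/-- The function induced from an extension of an invariant function on a normal subgroup
restricts to an index multiple of that function. -/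
theorem indFun_apply_of_extends (N : Subgroup G) [hN : N.Normal] (lam : N → ℂ)
    (hinv : ∀ (g : G) (n : N), lam ⟨g * n * g⁻¹, hN.conj_mem (n : G) n.2 g⟩ = lam n)
    (H : Subgroup G) (hNH : N ≤ H) (ν : H → ℂ)
    (hν : ∀ n : N, ν ⟨(n : G), hNH n.2⟩ = lam n) (x : N) :
    indFun H ν (x : G) = (H.index : ℂ) * lam x := by
  classical
  rw [Helper2.indFun_apply]
  have h : ∀ g : G, extendByZero H ν (g⁻¹ * (x : G) * g) = lam x := by
    intro g
    have hmem : g⁻¹ * (x : G) * g ∈ N := by
      have := hN.conj_mem (x : G) x.2 g⁻¹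
      rwa [inv_inv] at this
    rw [Helper2.extendByZero_apply_mem H ν (hNH hmem)]
    have h1 := hν ⟨_, hmem⟩
    have h2 := hinv g⁻¹ x
    have h3 : (⟨g⁻¹ * (x : G) * g⁻¹⁻¹, hN.conj_mem (x : G) x.2 g⁻¹⟩ : N) = ⟨_, hmem⟩ := by
      apply Subtype.ext
      simp
    rw [h3] at h2
    rw [← h2]
    exact h1
  rw [Finset.sum_congr rfl (fun g _ => h g), Finset.sum_const, Finset.card_univ, nsmul_eq_mul]
  have hH0 : (Nat.card H : ℂ) ≠ 0 := by exact_mod_cast (Nat.card_pos (α := H)).ne'
  have hcard : (Fintype.card G : ℂ) = (Nat.card H : ℂ) * (H.index : ℂ) := by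
    rw [← Nat.cast_mul, Subgroup.card_mul_index, Nat.card_eq_fintype_card]
  rw [hcard]
  field_simp

/-- The determinant trick: if a linear character `ν` of `H ⊇ N` extends the invariant linear
character `lam` of the normal subgroup `N`, then the `[G : H]`-th power of `lam` extends to a
linear character of `G`. -/
theorem exists_linear_extension_pow (N : Subgroup G) [hN : N.Normal] (lam : N → ℂ)
    (hlamc : IsCharacter N lam) (hlam1 : lam 1 = 1)
    (hinv : ∀ (g : G) (n : N), lam ⟨g * n * g⁻¹, hN.conj_mem (n : G) n.2 g⟩ = lam n)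
    (H : Subgroup G) (hNH : N ≤ H) (ν : H → ℂ) (hνc : IsCharacter H ν)
    (hν : ∀ n : N, ν ⟨(n : G), hNH n.2⟩ = lam n) :
    ∃ μ : G → ℂ, IsCharacter G μ ∧ μ 1 = 1 ∧ ∀ n : N, μ n = lam n ^ H.index := by
  classical
  obtain ⟨k, σ, hσ⟩ := Helper2.isCharacter_indFun H hνc
  have hval := indFun_apply_of_extends N lam hinv H hNH ν hν
  have hfr : Module.finrank ℂ (Fin k → ℂ) = k := by simp
  have hk : k = H.index := by
    have h1 := congrFun hσ 1
    rw [Representation.char_one, hfr] at h1
    have h2 := hval 1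
    rw [hlam1, mul_one, Subgroup.coe_one] at h2
    rw [h2] at h1
    exact_mod_cast h1
  have hkpos : 0 < k := by
    rw [hk]
    exact Nat.pos_of_ne_zero (Subgroup.index_ne_zero_of_finite)
  have hscal : ∀ x : N, σ (x : G) = lam x • (1 : Module.End ℂ (Fin k → ℂ)) := by
    intro x
    have hnorm : ‖σ.character (x : G)‖ = (Module.finrank ℂ (Fin k → ℂ) : ℝ) := by
      rw [hσ, hval, norm_mul, Helper24.linear_char_norm hlamc hlam1, mul_one, hfr, hk]
      simp
    obtain ⟨ω, hω, hω2⟩ := Helper2.character_scalar_of_norm_eq σ (x : G) hnorm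
    rw [hσ, hval, hfr, hk] at hω2
    have hi0 : (H.index : ℂ) ≠ 0 := by
      rw [← hk]
      exact_mod_cast hkpos.ne'
    have : ω = lam x := mul_left_cancel₀ hi0 hω2
    rw [hω, this]
  let δ : G →* ℂˣ :=
    (Units.map (LinearMap.det : Module.End ℂ (Fin k → ℂ) →* ℂ)).comp σ.toHomUnits
  refine ⟨fun g => ((δ g : ℂˣ) : ℂ), Helper2.isCharacter_of_hom δ, by simp, fun n => ?_⟩
  show LinearMap.det (σ (n : G)) = lam n ^ H.index
  rw [hscal, LinearMap.det_smul, map_one, mul_one, hfr, hk]

end LinExt

end Cfsg.Agent.Helper6
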