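import Cfsg.Agent.Helper6.ProjLift
import Cfsg.Agent.Helper6.LinExt

set_option autoImplicit false

namespace Cfsg.Agent.Helper6

open Cfsg
open scoped ComplexConjugate

section SylowExt

/-- The product of a linear character and an irreducible character is irreducible. -/
theorem isIrrCharacter_linear_mul {Γ : Type*} [Group Γ] [Fintype Γ] {μ χ : Γ → ℂ}
    (hμ : IsCharacter Γ μ) (hμ1 : μ 1 = 1) (hχ : IsIrrCharacter Γ χ) :
    IsIrrCharacter Γ (μ * χ) := by
  apply isIrr_of_norm_one (Helper2.IsCharacter.mul hμ (Helper24.isCharacter_of_irr hχ))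
  have h := Helper2.classInner_irr hχ hχ
  rw [if_pos rfl] at h
  rw [← h]
  unfold classInner
  congr 1
  refine Finset.sum_congr rfl fun g _ => ?_
  have h1 : μ g * conj (μ g) = 1 := by
    rw [Complex.mul_conj, Complex.normSq_eq_norm_sq, Helper24.linear_char_norm hμ hμ1]
    simp
  rw [Pi.mul_apply, map_mul]
  linear_combination (χ g * conj (χ g)) * h1

variable {G : Type*} [Group G] {V : Type*} [AddCommGroup V] [Module ℂ V]

/-- An irreducible character of an intermediate subgroup extending the character of `ρ` is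
afforded by a representation on the same space restricting to `ρ` itself. -/
theorem exists_rep_extension [Finite G] (N : Subgroup G) {n : ℕ}
    (ρ : Representation ℂ N (Fin n → ℂ)) [ρ.IsIrreducible] (P : Subgroup G) (hNP : N ≤ P)
    (η : P → ℂ) (hη : IsCharacter P η) (hηN : ∀ m : N, η ⟨(m : G), hNP m.2⟩ = ρ.character m) :
    ∃ τ : Representation ℂ P (Fin n → ℂ), ∀ m : N, τ ⟨(m : G), hNP m.2⟩ = ρ m := by
  obtain ⟨n', τ₀, rfl⟩ := hη
  have hn : n' = n := by
    have h1 := hηN 1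
    have h2 : (⟨((1 : N) : G), hNP (1 : N).2⟩ : P) = 1 := rfl
    rw [h2, Representation.char_one, Representation.char_one] at h1
    simpa using h1
  subst hn
  obtain ⟨A, hA⟩ := exists_intertwiner ρ (τ₀.comp (Subgroup.inclusion hNP)) (by
    funext m
    exact hηN m)
  let τu : P →* (Module.End ℂ (Fin n' → ℂ))ˣ :=
    (MulAut.conj A⁻¹).toMonoidHom.comp τ₀.toHomUnits
  refine ⟨(Units.coeHom (Module.End ℂ (Fin n' → ℂ))).comp τu, fun m => ?_⟩
  show ((A⁻¹ * τ₀.toHomUnits ⟨(m : G), hNP m.2⟩ * A⁻¹⁻¹ : (Module.End ℂ (Fin n' → ℂ))ˣ) :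
    Module.End ℂ (Fin n' → ℂ)) = ρ m
  have h1 := hA m
  rw [inv_inv, Units.val_mul, Units.val_mul, MonoidHom.coe_toHomUnits, mul_assoc]
  have h2 : τ₀ ⟨(m : G), hNP m.2⟩ * (A : Module.End ℂ (Fin n' → ℂ)) =
      (A : Module.End ℂ (Fin n' → ℂ)) * ρ m := h1.symm
  rw [h2, ← mul_assoc, Units.inv_mul, one_mul]

/-- For a representation `τ` of an intermediate subgroup `P` restricting to `ρ`, the quotient of
`τ` by the tautological representation of the central extension is a linear character of the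
preimage of `P`. -/
theorem exists_scalar_char [Finite G] [FiniteDimensional ℂ V] (N : Subgroup G) [hN : N.Normal]
    (ρ : Representation ℂ N V) [ρ.IsIrreducible] (P : Subgroup G) (hNP : N ≤ P)
    (τ : Representation ℂ P V) (hτ : ∀ m : N, τ ⟨(m : G), hNP m.2⟩ = ρ m) :
    ∃ b : P.comap (liftProj N ρ) → ℂ, IsCharacter (P.comap (liftProj N ρ)) b ∧ b 1 = 1 ∧
      ∀ γ : P.comap (liftProj N ρ),
        τ ⟨liftProj N ρ γ, γ.2⟩ = b γ • liftRep N ρ (γ : liftSubgroup N ρ) := by
  have hV : Nontrivial (Module.End ℂ V) := by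
    have hirr : IsIrrCharacter N ρ.character := Helper2.isIrrCharacter_of_rep ρ
    have h1 := Helper24.irr_one_ne_zero hirr
    rw [Representation.char_one] at h1
    have h2 : Module.finrank ℂ V ≠ 0 := by
      intro h0
      apply h1
      rw [h0, Nat.cast_zero]
    have : Nontrivial V := Module.nontrivial_of_finrank_pos (R := ℂ) (Nat.pos_of_ne_zero h2)
    infer_instance
  have hne : ∀ γ : liftSubgroup N ρ, liftRep N ρ γ ≠ 0 := fun γ => (liftHom N ρ γ).ne_zero
  have key : ∀ γ : P.comap (liftProj N ρ), ∃ c : ℂ,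
      τ ⟨liftProj N ρ γ, γ.2⟩ = c • liftRep N ρ (γ : liftSubgroup N ρ) := by
    intro γ
    have h1 : (liftProj N ρ γ, τ.toHomUnits ⟨liftProj N ρ γ, γ.2⟩) ∈ twistSubgroup N ρ := by
      intro m
      show τ ⟨liftProj N ρ γ, γ.2⟩ * ρ m =
        ρ (MulAut.conjNormal (liftProj N ρ γ) m) * τ ⟨liftProj N ρ γ, γ.2⟩
      rw [← hτ m, ← hτ (MulAut.conjNormal (liftProj N ρ γ) m), ← map_mul, ← map_mul]
      congr 1
      apply Subtype.ext
      simp [MulAut.conjNormal_apply]
    have h2 : (γ : liftSubgroup N ρ).1 ∈ twistSubgroup N ρ :=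
      ((mem_liftSubgroup N ρ _).mp (γ : liftSubgroup N ρ).2).1
    have h3 := (twistSubgroup N ρ).mul_mem h1 ((twistSubgroup N ρ).inv_mem h2)
    have h4 : ((liftProj N ρ γ, τ.toHomUnits ⟨liftProj N ρ γ, γ.2⟩) *
        ((γ : liftSubgroup N ρ).1)⁻¹ : G × (Module.End ℂ V)ˣ) =
        (1, τ.toHomUnits ⟨liftProj N ρ γ, γ.2⟩ * (liftHom N ρ γ)⁻¹) := by
      ext1
      · exact mul_inv_cancel _
      · rfl
    rw [h4] at h3
    obtain ⟨c, hc⟩ := twist_scalar N ρ h3
    refine ⟨c, ?_⟩
    have h5 : τ ⟨liftProj N ρ γ, γ.2⟩ =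
        ((τ.toHomUnits ⟨liftProj N ρ γ, γ.2⟩ * (liftHom N ρ γ)⁻¹ : (Module.End ℂ V)ˣ) :
          Module.End ℂ V) * ((liftHom N ρ γ : (Module.End ℂ V)ˣ) : Module.End ℂ V) := by
      rw [← Units.val_mul, inv_mul_cancel_right]
      rfl
    rw [h5, hc, smul_mul_assoc, one_mul]
    rfl
  choose b hb using key
  have hb1 : b 1 = 1 := by
    have h := hb 1
    have e1 : (⟨liftProj N ρ ((1 : P.comap (liftProj N ρ)) : liftSubgroup N ρ),
        (1 : P.comap (liftProj N ρ)).2⟩ : P) = 1 := rfl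
    have e2 : liftRep N ρ ((1 : P.comap (liftProj N ρ)) : liftSubgroup N ρ) = 1 := map_one _
    rw [e1, e2, map_one] at h
    have h' : (1 : ℂ) • (1 : Module.End ℂ V) = b 1 • (1 : Module.End ℂ V) := by
      rw [one_smul]; exact h
    exact (smul_left_injective ℂ (one_ne_zero (α := Module.End ℂ V)) h').symm
  have hbmul : ∀ x y : P.comap (liftProj N ρ), b (x * y) = b x * b y := by
    intro x y
    have h := hb (x * y)
    have e1 : (⟨liftProj N ρ ((x * y : P.comap (liftProj N ρ)) : liftSubgroup N ρ),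
        (x * y).2⟩ : P) = ⟨liftProj N ρ x, x.2⟩ * ⟨liftProj N ρ y, y.2⟩ := by
      apply Subtype.ext
      show liftProj N ρ ((x : liftSubgroup N ρ) * (y : liftSubgroup N ρ)) = _
      rw [map_mul]
      rfl
    have e2 : liftRep N ρ ((x * y : P.comap (liftProj N ρ)) : liftSubgroup N ρ) =
        liftRep N ρ (x : liftSubgroup N ρ) * liftRep N ρ (y : liftSubgroup N ρ) := by
      show liftRep N ρ ((x : liftSubgroup N ρ) * (y : liftSubgroup N ρ)) = _
      rw [map_mul]
    rw [e1, map_mul, hb x, hb y, smul_mul_smul_comm, ← e2] at h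
    exact (smul_left_injective ℂ (hne _) h).symm
  let f : P.comap (liftProj N ρ) →* ℂ := ⟨⟨b, hb1⟩, hbmul⟩
  exact ⟨b, Helper2.isCharacter_of_hom f.toHomUnits, hb1, hb⟩

end SylowExt

end Cfsg.Agent.Helper6
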