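import Cfsg.Agent.Helper6.DetChar
import Cfsg.Agent.Helper6.SylowExt
import Cfsg.Agent.Helper6.Kernel
import Cfsg.Agent.S0856

set_option autoImplicit false

namespace Cfsg.Agent.Helper6

open Cfsg
open scoped ComplexConjugate

section DetExt

variable {G : Type*} [Group G]

theorem isCharacter_pow {μ : G → ℂ} (hμ : IsCharacter G μ) (j : ℕ) : IsCharacter G (μ ^ j) := by
  induction j with
  | zero =>
    rw [pow_zero]
    exact Helper24.isCharacter_of_irr Helper2.isIrrCharacter_one_fun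
  | succ j ih =>
    rw [pow_succ]
    exact Helper2.IsCharacter.mul ih hμ

theorem linear_ne_zero [Finite G] {μ : G → ℂ} (hμ : IsCharacter G μ) (hμ1 : μ 1 = 1) (g : G) :
    μ g ≠ 0 := by
  intro h0
  have h1 := Helper24.linear_char_norm hμ hμ1 g
  rw [h0, norm_zero] at h1
  exact zero_ne_one h1

theorem linear_pow_card [Finite G] {μ : G → ℂ} (hμ : IsCharacter G μ) (hμ1 : μ 1 = 1) (g : G) :
    μ g ^ Nat.card G = 1 := by
  rw [← Helper24.linear_char_pow hμ hμ1, pow_card_eq_one', hμ1]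

/-- A linear character trivial on a normal subgroup has order dividing the index. -/
theorem linear_pow_index [Finite G] (N : Subgroup G) [N.Normal] {β : G → ℂ}
    (hβ : IsCharacter G β) (hβ1 : β 1 = 1) (hβN : ∀ n : N, β n = 1) (g : G) :
    β g ^ N.index = 1 := by
  rw [← Helper24.linear_char_pow hβ hβ1]
  exact hβN ⟨g ^ N.index, N.pow_index_mem g⟩

/-- Gallagher for extensions: two extensions of an irreducible character of a normal subgroup
differ by a linear character trivial on the subgroup. -/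
theorem exists_linear_of_extensions [Fintype G] (N : Subgroup G) [hN : N.Normal] [Fintype N]
    {ϑ : N → ℂ} (hϑ : IsIrrCharacter N ϑ) {η χ' : G → ℂ} (hη : IsIrrCharacter G η)
    (hηN : ∀ n : N, η n = ϑ n) (hχ' : IsIrrCharacter G χ') (hχ'N : ∀ n : N, χ' n = ϑ n) :
    ∃ β : G → ℂ, IsCharacter G β ∧ β 1 = 1 ∧ (∀ n : N, β n = 1) ∧ χ' = β * η := by
  classical
  have hone : IsIrrCharacter N (1 : N → ℂ) := Helper2.isIrrCharacter_one_fun
  have hϑinv : ∀ (g : G) (n : N), ϑ ⟨g * n * g⁻¹, hN.conj_mem (n : G) n.2 g⟩ = ϑ n := by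
    intro g n
    rw [← hηN, ← hηN]
    exact Helper2.IsIrrCharacter.isClassFunction hη _ _
  have hbij := Cfsg.Agent.S0856.result N (1 : N → ℂ) ϑ hone hϑ (fun _ _ => rfl) hϑinv
    (by rw [one_mul]; exact hϑ) η hη hηN
  have hmem : χ' ∈ {ψ : G → ℂ | IsIrrCharacter G ψ ∧ classInner (indFun N (1 * ϑ)) ψ ≠ 0} := by
    refine ⟨hχ', ?_⟩
    rw [one_mul, classInner_indFun_eq N (Helper24.isCharacter_of_irr hϑ)
      (Helper24.isCharacter_of_irr hχ')]
    have h1 : (fun n : N => χ' n) = ϑ := funext hχ'N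
    rw [h1, Helper2.classInner_irr hϑ hϑ, if_pos rfl]
    exact one_ne_zero
  obtain ⟨β, ⟨hβ, hβ1⟩, hβχ⟩ := hbij.surjOn hmem
  have hβc : IsCharacter G β := Helper24.isCharacter_of_irr hβ
  have hη1 : η 1 ≠ 0 := Helper24.irr_one_ne_zero hη
  have hdeg : β 1 = 1 := by
    have h1 := congrFun hβχ 1
    have h2 : χ' 1 = η 1 := by
      have a := hχ'N 1
      have b := hηN 1
      rw [Subgroup.coe_one] at a b
      rw [a, b]
    rw [h2] at h1
    have h3 : β 1 * η 1 = 1 * η 1 := by rw [one_mul]; exact h1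
    exact mul_right_cancel₀ hη1 h3
  refine ⟨β, hβc, hdeg, ?_, hβχ.symm⟩
  rw [classInner_indFun_eq N (Helper24.isCharacter_of_irr hone) hβc] at hβ1
  have hres := res_eq_smul_of_invariant N hone (fun _ _ => rfl) hβ hβ1
  intro n
  have e1 := congrFun hres n
  have e2 := congrFun hres 1
  simp only [Pi.smul_apply, Pi.one_apply] at e1 e2
  rw [Subgroup.coe_one, hdeg] at e2
  rw [e1, ← e2]

end DetExt

end Cfsg.Agent.Helper6
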