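import Mathlib
import Cfsg.Prelude.Def_LieExceptional

set_option autoImplicit false

namespace Cfsg.Agent.Helper6.Zass

open MulAction

variable {G Ω : Type*} [Group G] [MulAction G Ω]

/-- The two-transitivity hypothesis in elementary form. -/
def TwoTrans (G Ω : Type*) [Group G] [MulAction G Ω] : Prop :=
  ∀ {a b c d : Ω}, a ≠ b → c ≠ d → ∃ g : G, g • a = c ∧ g • b = d

/-- No non-identity element fixes three points. -/
def NoThree (G Ω : Type*) [Group G] [MulAction G Ω] : Prop :=
  ∀ g : G, ∀ a b c : Ω, a ≠ b → b ≠ c → a ≠ c → g • a = a → g • b = b → g • c = c → g = 1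

theorem zass_twoTrans (hZ : Cfsg.IsZassenhausGroup G Ω) : TwoTrans G Ω := by
  have h := hZ.2.1
  rw [MulAction.is_two_pretransitive_iff] at h
  intro a b c d hab hcd
  exact h hab hcd

theorem zass_noThree (hZ : Cfsg.IsZassenhausGroup G Ω) : NoThree G Ω := hZ.2.2.1

/-- all two-point stabilizers have the same order -/
theorem card_tps_eq (h2 : TwoTrans G Ω) {a b c d : Ω} (hab : a ≠ b) (hcd : c ≠ d) :
    Nat.card ↥(stabilizer G c ⊓ stabilizer G d : Subgroup G)
      = Nat.card ↥(stabilizer G a ⊓ stabilizer G b : Subgroup G) := by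
  obtain ⟨g, rfl, rfl⟩ := h2 hab hcd
  rw [stabilizer_smul_eq_stabilizer_map_conj, stabilizer_smul_eq_stabilizer_map_conj,
    ← Subgroup.map_inf _ _ _ (MulEquiv.injective _)]
  exact Subgroup.card_map_of_injective (MulEquiv.injective _)

theorem stab_pair (a b : Ω) :
    stabilizer G ((a, b) : Ω × Ω) = stabilizer G a ⊓ stabilizer G b := by
  ext g
  simp [mem_stabilizer_iff, Prod.ext_iff]

theorem orbit_pair (h2 : TwoTrans G Ω) {a b : Ω} (hab : a ≠ b) :
    orbit G ((a, b) : Ω × Ω) = {p : Ω × Ω | p.1 ≠ p.2} := by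
  ext ⟨c, d⟩
  constructor
  · rintro ⟨g, hg⟩
    simp only [Prod.smul_mk, Prod.mk.injEq] at hg
    simp only [Set.mem_ofPred_eq]
    rw [← hg.1, ← hg.2]
    intro h
    exact hab (smul_left_cancel g h)
  · intro hcd
    obtain ⟨g, h1, h2'⟩ := h2 hab hcd
    exact ⟨g, by simp [h1, h2']⟩

/-- `|G| = n(n-1)e`. -/
theorem card_group_eq [Finite G] [Fintype Ω] (h2 : TwoTrans G Ω) {a b : Ω} (hab : a ≠ b) :
    Nat.card G = (Fintype.card Ω * Fintype.card Ω - Fintype.card Ω)
      * Nat.card ↥(stabilizer G a ⊓ stabilizer G b : Subgroup G) := by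
  classical
  have e := MulAction.orbitProdStabilizerEquivGroup G ((a, b) : Ω × Ω)
  rw [← Nat.card_congr e, Nat.card_prod, stab_pair, orbit_pair h2 hab]
  congr 1
  rw [Nat.card_eq_fintype_card, Fintype.card_subtype]
  have : (Finset.univ.filter fun p : Ω × Ω => p ∈ {p : Ω × Ω | p.1 ≠ p.2})
      = (Finset.univ : Finset Ω).offDiag := by
    ext ⟨c, d⟩
    simp
  rw [this, Finset.offDiag_card, Finset.card_univ]

theorem pretrans (h2 : TwoTrans G Ω) (a b : Ω) : ∃ g : G, g • a = b := by
  by_cases hab : a = b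
  · exact ⟨1, by simp [hab]⟩
  · obtain ⟨g, h1, _⟩ := h2 hab (Ne.symm hab)
    exact ⟨g, h1⟩

/-- `|G| = n |G_a|`. -/
theorem card_group_eq_stab [Finite G] [Fintype Ω] (h2 : TwoTrans G Ω) (a : Ω) :
    Nat.card G = Fintype.card Ω * Nat.card ↥(stabilizer G a) := by
  classical
  have e := MulAction.orbitProdStabilizerEquivGroup G a
  rw [← Nat.card_congr e, Nat.card_prod]
  congr 1
  have : orbit G a = Set.univ := by
    ext c
    simp only [Set.mem_univ, iff_true]
    obtain ⟨g, hg⟩ := pretrans h2 a c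
    exact ⟨g, hg⟩
  rw [this, Nat.card_eq_fintype_card]
  simp

theorem sum_card_filter_comm {α β : Type*} (S : Finset α) (R : Finset β)
    (P : α → β → Prop) [∀ a b, Decidable (P a b)] :
    ∑ g ∈ S, (R.filter (P g)).card = ∑ r ∈ R, (S.filter (fun g => P g r)).card := by
  simp only [Finset.card_filter]
  exact Finset.sum_comm

theorem natCard_subtype_eq_filter {α : Type*} [Fintype α] (p : α → Prop) [DecidablePred p] :
    Nat.card {x // p x} = (Finset.univ.filter p).card := by
  rw [Nat.card_eq_fintype_card, Fintype.card_subtype]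

theorem card_stab_filter [Fintype G] (c : Ω) [DecidablePred (fun g : G => g • c = c)] :
    (Finset.univ.filter (fun g : G => g • c = c)).card = Nat.card ↥(stabilizer G c) := by
  rw [← natCard_subtype_eq_filter]
  rfl

theorem card_tps_filter [Fintype G] (c d : Ω)
    [DecidablePred (fun g : G => g • c = c ∧ g • d = d)] :
    (Finset.univ.filter (fun g : G => g • c = c ∧ g • d = d)).card
      = Nat.card ↥(stabilizer G c ⊓ stabilizer G d : Subgroup G) := by
  rw [← natCard_subtype_eq_filter]
  exact Nat.card_congr (Equiv.subtypeEquivRight (fun g => by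
    simp [Subgroup.mem_inf, mem_stabilizer_iff]))

/-- a non-identity element has at most two fixed points -/
theorem card_fix_le_two [Fintype Ω] (h3 : NoThree G Ω) {g : G} (hg : g ≠ 1)
    [DecidablePred (fun c : Ω => g • c = c)] :
    (Finset.univ.filter (fun c : Ω => g • c = c)).card ≤ 2 := by
  by_contra hcon
  rw [not_le, Finset.two_lt_card] at hcon
  obtain ⟨x, hx, y, hy, z, hz, hxy, hxz, hyz⟩ := hcon
  simp only [Finset.mem_filter, Finset.mem_univ, true_and] at hx hy hz
  exact hg (h3 g x y z hxy hyz hxz hx hy hz)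

theorem offd_eq [Fintype Ω] [DecidableEq Ω] (g : G) [DecidablePred (fun c : Ω => g • c = c)]
    [DecidablePred (fun p : Ω × Ω => g • p.1 = p.1 ∧ g • p.2 = p.2)] :
    ((Finset.univ : Finset Ω).offDiag.filter (fun p : Ω × Ω => g • p.1 = p.1 ∧ g • p.2 = p.2))
      = (Finset.univ.filter (fun c : Ω => g • c = c)).offDiag := by
  ext ⟨c, d⟩
  simp only [Finset.mem_filter, Finset.mem_offDiag, Finset.mem_univ, true_and]
  tauto

/-- Global count of fixed-point-free elements. -/
theorem global_count [Finite G] [Fintype Ω] (h2 : TwoTrans G Ω) (h3 : NoThree G Ω)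
    {a b : Ω} (hab : a ≠ b) :
    2 * Nat.card {g : G // ∀ c : Ω, g • c ≠ c} + 2
        + (Fintype.card Ω * Fintype.card Ω - Fintype.card Ω)
      = Nat.card G + 2 * Fintype.card Ω := by
  classical
  haveI : Fintype G := Fintype.ofFinite G
  set n := Fintype.card Ω with hn
  set e := Nat.card ↥(stabilizer G a ⊓ stabilizer G b : Subgroup G) with he
  -- sum of fixed point counts
  have S1 : ∑ g : G, (Finset.univ.filter (fun c : Ω => g • c = c)).card = Nat.card G := by
    rw [sum_card_filter_comm]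
    have : ∀ c ∈ (Finset.univ : Finset Ω),
        (Finset.univ.filter (fun g : G => g • c = c)).card = Nat.card ↥(stabilizer G a) := by
      intro c _
      rw [card_stab_filter]
      have h1 := card_group_eq_stab h2 c
      have h2' := card_group_eq_stab h2 a
      have hpos : 0 < Fintype.card Ω := Fintype.card_pos_iff.mpr ⟨a⟩
      exact Nat.eq_of_mul_eq_mul_left hpos (h1.symm.trans h2')
    rw [Finset.sum_congr rfl this, Finset.sum_const, Finset.card_univ, smul_eq_mul,
      ← card_group_eq_stab h2 a]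
  have S2 : ∑ g : G, ((Finset.univ : Finset Ω).offDiag.filter
      (fun p : Ω × Ω => g • p.1 = p.1 ∧ g • p.2 = p.2)).card = Nat.card G := by
    rw [sum_card_filter_comm]
    have : ∀ p ∈ (Finset.univ : Finset Ω).offDiag,
        (Finset.univ.filter (fun g : G => g • p.1 = p.1 ∧ g • p.2 = p.2)).card = e := by
      intro p hp
      rw [card_tps_filter]
      simp only [Finset.mem_offDiag, Finset.mem_univ, true_and] at hp
      exact card_tps_eq h2 hab hp
    rw [Finset.sum_congr rfl this, Finset.sum_const, Finset.offDiag_card, Finset.card_univ,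
      smul_eq_mul, card_group_eq h2 hab]
  have S0 : ∑ g : G, (if ∀ c : Ω, g • c ≠ c then 1 else 0)
      = Nat.card {g : G // ∀ c : Ω, g • c ≠ c} := by
    rw [natCard_subtype_eq_filter, Finset.card_filter]
  -- pointwise identity
  have key : ∀ g : G, g ≠ 1 →
      2 * (if ∀ c : Ω, g • c ≠ c then 1 else 0)
        + 2 * (Finset.univ.filter (fun c : Ω => g • c = c)).card
      = 2 + ((Finset.univ : Finset Ω).offDiag.filter
          (fun p : Ω × Ω => g • p.1 = p.1 ∧ g • p.2 = p.2)).card := by
    intro g hg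
    rw [offd_eq, Finset.offDiag_card]
    have hle := card_fix_le_two h3 hg
    have hz : (∀ c : Ω, g • c ≠ c) ↔ (Finset.univ.filter (fun c : Ω => g • c = c)).card = 0 := by
      rw [Finset.card_eq_zero, Finset.filter_eq_empty_iff]
      simp
    generalize (Finset.univ.filter (fun c : Ω => g • c = c)).card = k at hle hz
    by_cases hk : k = 0
    · rw [if_pos (hz.mpr hk)]; subst hk; rfl
    · rw [if_neg (fun h => hk (hz.mp h))]
      interval_cases k
      · exact absurd rfl hk
      · rfl
      · rfl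
  have key1 : 2 * (if ∀ c : Ω, (1 : G) • c ≠ c then 1 else 0)
        + 2 * (Finset.univ.filter (fun c : Ω => (1 : G) • c = c)).card = 2 * n := by
    rw [if_neg (fun h => h a (one_smul _ _))]
    simp [hn]
  have key2 : 2 + ((Finset.univ : Finset Ω).offDiag.filter
          (fun p : Ω × Ω => (1 : G) • p.1 = p.1 ∧ (1 : G) • p.2 = p.2)).card
      = 2 + (n * n - n) := by
    rw [offd_eq, Finset.offDiag_card]
    simp [hn]
  have T1 : ∑ g : G, (2 * (if ∀ c : Ω, g • c ≠ c then 1 else 0)
        + 2 * (Finset.univ.filter (fun c : Ω => g • c = c)).card)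
      = 2 * Nat.card {g : G // ∀ c : Ω, g • c ≠ c} + 2 * Nat.card G := by
    rw [Finset.sum_add_distrib, ← Finset.mul_sum, ← Finset.mul_sum, S0, S1]
  have T2 : ∑ g : G, (2 + ((Finset.univ : Finset Ω).offDiag.filter
          (fun p : Ω × Ω => g • p.1 = p.1 ∧ g • p.2 = p.2)).card)
      = 2 * Nat.card G + Nat.card G := by
    rw [Finset.sum_add_distrib, S2, Finset.sum_const, Finset.card_univ, smul_eq_mul,
      Nat.card_eq_fintype_card, mul_comm]
  have T3 : ∑ g ∈ (Finset.univ : Finset G).erase 1,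
        (2 * (if ∀ c : Ω, g • c ≠ c then 1 else 0)
        + 2 * (Finset.univ.filter (fun c : Ω => g • c = c)).card)
      = ∑ g ∈ (Finset.univ : Finset G).erase 1,
        (2 + ((Finset.univ : Finset Ω).offDiag.filter
          (fun p : Ω × Ω => g • p.1 = p.1 ∧ g • p.2 = p.2)).card) := by
    apply Finset.sum_congr rfl
    intro g hg
    exact key g (Finset.ne_of_mem_erase hg)
  rw [← Finset.add_sum_erase _ _ (Finset.mem_univ (1 : G)), key1] at T1
  rw [← Finset.add_sum_erase _ _ (Finset.mem_univ (1 : G)), key2] at T2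
  rw [T3] at T1
  omega

/-- Local count: the number of non-identity elements fixing exactly the point `a` is `n - 2`. -/
theorem local_count [Finite G] [Fintype Ω] (h2 : TwoTrans G Ω) (h3 : NoThree G Ω)
    {a b : Ω} (hab : a ≠ b) :
    Nat.card {g : G // g • a = a ∧ g ≠ 1 ∧ ∀ c : Ω, g • c = c → c = a} + 2
      = Fintype.card Ω := by
  classical
  haveI : Fintype G := Fintype.ofFinite G
  set n := Fintype.card Ω with hn
  set e := Nat.card ↥(stabilizer G a ⊓ stabilizer G b : Subgroup G) with he
  set SA : Finset G := Finset.univ.filter (fun g : G => g • a = a) with hSA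
  set R : Finset Ω := Finset.univ.erase a with hR
  have hRcard : R.card + 1 = n := by
    rw [hR, Finset.card_erase_of_mem (Finset.mem_univ a), Finset.card_univ]
    have hpos : 0 < Fintype.card Ω := Fintype.card_pos_iff.mpr ⟨a⟩
    omega
  have h1SA : (1 : G) ∈ SA := by simp [hSA]
  -- card of SA
  have hSAcard : SA.card = R.card * e := by
    have h1 := card_group_eq_stab h2 a
    have h2' := card_group_eq h2 hab
    rw [hSA, card_stab_filter]
    have hpos : 0 < Fintype.card Ω := Fintype.card_pos_iff.mpr ⟨a⟩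
    apply Nat.eq_of_mul_eq_mul_left hpos
    rw [← h1, h2', ← he, ← mul_assoc]
    congr 1
    have : Fintype.card Ω = R.card + 1 := hRcard.symm
    rw [this]
    simp [Nat.add_mul, Nat.mul_add]
  have L1 : ∑ g ∈ SA, (R.filter (fun c : Ω => g • c = c)).card = SA.card := by
    rw [sum_card_filter_comm, hSAcard]
    have : ∀ c ∈ R, (SA.filter (fun g : G => g • c = c)).card = e := by
      intro c hc
      rw [hSA, Finset.filter_filter, card_tps_filter]
      have hca : c ≠ a := Finset.ne_of_mem_erase hc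
      exact card_tps_eq h2 hab (Ne.symm hca)
    rw [Finset.sum_congr rfl this, Finset.sum_const, smul_eq_mul]
  have L0 : ∑ g ∈ SA, (if g ≠ 1 ∧ ∀ c : Ω, g • c = c → c = a then 1 else 0)
      = Nat.card {g : G // g • a = a ∧ g ≠ 1 ∧ ∀ c : Ω, g • c = c → c = a} := by
    rw [natCard_subtype_eq_filter, ← Finset.card_filter, hSA, Finset.filter_filter]
  have key : ∀ g ∈ SA, g ≠ 1 →
      (if g ≠ 1 ∧ ∀ c : Ω, g • c = c → c = a then 1 else 0)
        + (R.filter (fun c : Ω => g • c = c)).card = 1 := by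
    intro g hg hg1
    have hga : g • a = a := by simpa [hSA] using hg
    have hle : (R.filter (fun c : Ω => g • c = c)).card ≤ 1 := by
      rw [Finset.card_le_one]
      intro x hx y hy
      simp only [hR, Finset.mem_filter, Finset.mem_erase, Finset.mem_univ, and_true] at hx hy
      by_contra hxy
      exact hg1 (h3 g a x y (Ne.symm hx.1) hxy (Ne.symm hy.1) hga hx.2 hy.2)
    have hz : (∀ c : Ω, g • c = c → c = a) ↔ (R.filter (fun c : Ω => g • c = c)).card = 0 := by
      rw [Finset.card_eq_zero, Finset.filter_eq_empty_iff]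
      simp only [hR, Finset.mem_erase, Finset.mem_univ, and_true]
      constructor
      · intro h c hc hgc; exact hc (h c hgc)
      · intro h c hgc; by_contra hc; exact h hc hgc
    generalize (R.filter (fun c : Ω => g • c = c)).card = k at hle hz
    by_cases hk : k = 0
    · rw [if_pos ⟨hg1, hz.mpr hk⟩]; omega
    · rw [if_neg (fun h => hk (hz.mp h.2))]; omega
  have key1 : (if (1 : G) ≠ 1 ∧ ∀ c : Ω, (1 : G) • c = c → c = a then 1 else 0)
        + (R.filter (fun c : Ω => (1 : G) • c = c)).card = R.card := by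
    rw [if_neg (fun h => h.1 rfl)]
    simp
  have T1 : ∑ g ∈ SA, ((if g ≠ 1 ∧ ∀ c : Ω, g • c = c → c = a then 1 else 0)
        + (R.filter (fun c : Ω => g • c = c)).card)
      = Nat.card {g : G // g • a = a ∧ g ≠ 1 ∧ ∀ c : Ω, g • c = c → c = a} + SA.card := by
    rw [Finset.sum_add_distrib, L0, L1]
  have T3 : ∑ g ∈ SA.erase 1, ((if g ≠ 1 ∧ ∀ c : Ω, g • c = c → c = a then 1 else 0)
        + (R.filter (fun c : Ω => g • c = c)).card)
      = ∑ g ∈ SA.erase 1, 1 := by
    apply Finset.sum_congr rfl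
    intro g hg
    exact key g (Finset.mem_of_mem_erase hg) (Finset.ne_of_mem_erase hg)
  rw [← Finset.add_sum_erase _ _ h1SA, key1, T3, Finset.sum_const, smul_eq_mul, mul_one,
    Finset.card_erase_of_mem h1SA] at T1
  have hSApos : 0 < SA.card := Finset.card_pos.mpr ⟨1, h1SA⟩
  omega

theorem zass_card_ge_three [Fintype Ω] (hZ : Cfsg.IsZassenhausGroup G Ω) :
    3 ≤ Fintype.card Ω := by
  obtain ⟨g, hg1, a, b, hab, hga, hgb⟩ := hZ.2.2.2.1
  haveI := hZ.1
  have : ∃ c : Ω, g • c ≠ c := by
    by_contra hcon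
    push Not at hcon
    exact hg1 (FaithfulSMul.eq_of_smul_eq_smul (α := Ω) (fun c => by rw [hcon c, one_smul]))
  obtain ⟨c, hc⟩ := this
  have hca : c ≠ a := fun h => hc (h ▸ hga)
  have hcb : c ≠ b := fun h => hc (h ▸ hgb)
  exact Fintype.two_lt_card_iff.mpr ⟨a, b, c, hab, Ne.symm hca, Ne.symm hcb⟩

theorem zass_exists_tps_ne_one (hZ : Cfsg.IsZassenhausGroup G Ω) {a b : Ω} (hab : a ≠ b) :
    ∃ x : G, x ≠ 1 ∧ x • a = a ∧ x • b = b := by
  obtain ⟨g, hg1, a₀, b₀, hab₀, hga, hgb⟩ := hZ.2.2.2.1
  obtain ⟨t, hta, htb⟩ := zass_twoTrans hZ hab₀ hab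
  refine ⟨t * g * t⁻¹, ?_, ?_, ?_⟩
  · intro h
    apply hg1
    have : g = t⁻¹ * (t * g * t⁻¹) * t := by group
    rw [this, h]; group
  · have : t⁻¹ • a = a₀ := by rw [inv_smul_eq_iff, hta]
    rw [mul_smul, mul_smul, this, hga, hta]
  · have : t⁻¹ • b = b₀ := by rw [inv_smul_eq_iff, htb]
    rw [mul_smul, mul_smul, this, hgb, htb]

/-- A subgroup of the stabilizer of order `n - 1` whose non-identity elements fix only `a`
contains every element fixing exactly `a`. -/
theorem mem_of_fix_only [Finite G] [Fintype Ω] (h2 : TwoTrans G Ω) (h3 : NoThree G Ω)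
    {a b : Ω} (hab : a ≠ b) (H : Subgroup G)
    (hHa : H ≤ stabilizer G a) (hHcard : Nat.card H + 1 = Fintype.card Ω)
    (hHfix : ∀ u ∈ H, u ≠ 1 → ∀ c : Ω, u • c = c → c = a)
    (u : G) (hua : u • a = a) (hu1 : u ≠ 1) (hu : ∀ c : Ω, u • c = c → c = a) : u ∈ H := by
  classical
  haveI : Fintype G := Fintype.ofFinite G
  have hloc := local_count h2 h3 hab
  rw [natCard_subtype_eq_filter] at hloc
  have hHc : Nat.card H = (Finset.univ.filter (fun g : G => g ∈ H)).card := by
    rw [← natCard_subtype_eq_filter]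
  have h1mem : (1 : G) ∈ Finset.univ.filter (fun g : G => g ∈ H) := by simp
  have hsub : (Finset.univ.filter (fun g : G => g ∈ H)).erase 1
      ⊆ Finset.univ.filter (fun g : G => g • a = a ∧ g ≠ 1 ∧ ∀ c : Ω, g • c = c → c = a) := by
    intro g hg
    simp only [Finset.mem_erase, Finset.mem_filter, Finset.mem_univ, true_and] at hg ⊢
    exact ⟨hHa hg.2, hg.1, hHfix g hg.2 hg.1⟩
  have hcard : (Finset.univ.filter
      (fun g : G => g • a = a ∧ g ≠ 1 ∧ ∀ c : Ω, g • c = c → c = a)).card
      ≤ ((Finset.univ.filter (fun g : G => g ∈ H)).erase 1).card := by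
    rw [Finset.card_erase_of_mem h1mem]
    omega
  have heq := Finset.eq_of_subset_of_card_le hsub hcard
  have : u ∈ (Finset.univ.filter (fun g : G => g ∈ H)).erase 1 := by
    rw [heq]
    simp only [Finset.mem_filter, Finset.mem_univ, true_and]
    exact ⟨hua, hu1, hu⟩
  simpa using (Finset.mem_of_mem_erase this)

end Cfsg.Agent.Helper6.Zass
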