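import Mathlib
import Cfsg.Agent.Helper6.Zass
import Cfsg.Agent.S0035
import Cfsg.Agent.S4252

set_option autoImplicit false

namespace Cfsg.Agent.Helper6.Zass

open MulAction

/-- Frobenius' theorem for actions: a finite group acting transitively and non-regularly on a
finite set so that no non-identity element fixes two points has a normal subgroup consisting
of the identity and the fixed-point-free elements; its order is the number of points. -/
theorem frob_kernel_of_action {G' Ω' : Type*} [Group G'] [Finite G'] [Fintype Ω']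
    [MulAction G' Ω'] (hΩ : 1 < Fintype.card Ω')
    (htrans : ∀ α β : Ω', ∃ g : G', g • α = β)
    (hnreg : ∃ g : G', g ≠ 1 ∧ ∃ α : Ω', g • α = α)
    (hfix : ∀ g : G', g ≠ 1 → ∀ α β : Ω', g • α = α → g • β = β → α = β) :
    ∃ N : Subgroup G', N.Normal ∧ (∀ g : G', g ∈ N ↔ (g = 1 ∨ ∀ ω : Ω', g • ω ≠ ω)) ∧
      Nat.card N = Fintype.card Ω' := by
  have hne : Nonempty Ω' := Fintype.card_pos_iff.mp (by omega)
  obtain ⟨α⟩ := hne
  obtain ⟨hFC, hker⟩ := Cfsg.Agent.S4252.result hΩ htrans hnreg hfix α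
  obtain ⟨N, hN, hNn, hcompl⟩ := Cfsg.Agent.S0035.result _ hFC
  refine ⟨N, hNn, ?_, ?_⟩
  · intro g
    have : g ∈ (N : Set G') ↔ g ∈ {g : G' | g = 1 ∨ ∀ ω : Ω', g • ω ≠ ω} := by
      rw [hN, hker]
    exact this
  · have h1 := hcompl.card_mul_card
    haveI : IsPretransitive G' Ω' := ⟨htrans⟩
    have h2 := MulAction.index_stabilizer_of_transitive G' α
    have h3 := Subgroup.index_mul_card (stabilizer G' α)
    rw [h2, ← h1] at h3
    have hpos : 0 < Nat.card ↥(stabilizer G' α) := Nat.card_pos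
    have := Nat.eq_of_mul_eq_mul_right hpos h3
    rw [← this, Nat.card_eq_fintype_card]

variable {G Ω : Type*} [Group G] [MulAction G Ω]

/-- The Frobenius kernel of a point stabilizer of a Zassenhaus group. -/
theorem zass_exists_kernel [Finite G] [Fintype Ω] (hZ : Cfsg.IsZassenhausGroup G Ω) (a : Ω) :
    ∃ H : Subgroup G, H ≤ stabilizer G a ∧ Nat.card H + 1 = Fintype.card Ω ∧
      (∀ u ∈ H, u ≠ 1 → ∀ c : Ω, u • c = c → c = a) := by
  classical
  have h2 : TwoTrans G Ω := zass_twoTrans hZ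
  have h3 := zass_noThree hZ
  have hn := zass_card_ge_three hZ
  haveI : Fintype ↥(SubMulAction.ofStabilizer G a) := Fintype.ofFinite _
  have hcard : Fintype.card ↥(SubMulAction.ofStabilizer G a) + 1 = Fintype.card Ω := by
    have := SubMulAction.nat_card_ofStabilizer_add_one_eq G a
    rw [Nat.card_eq_fintype_card, Nat.card_eq_fintype_card] at this
    exact this
  obtain ⟨b, hba⟩ : ∃ b : Ω, b ≠ a := by
    by_contra hcon
    push Not at hcon
    have : Fintype.card Ω ≤ 1 := Fintype.card_le_one_iff.mpr (fun x y => by rw [hcon x, hcon y])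
    omega
  have hsm : ∀ (g : stabilizer G a) (ω : SubMulAction.ofStabilizer G a),
      ((g • ω : SubMulAction.ofStabilizer G a) : Ω) = (g : G) • (ω : Ω) := fun g ω => rfl
  obtain ⟨N, hNn, hNmem, hNcard⟩ := frob_kernel_of_action
    (G' := stabilizer G a) (Ω' := SubMulAction.ofStabilizer G a) (by omega)
    (by
      rintro ⟨α, hα⟩ ⟨β, hβ⟩
      have hα' : a ≠ α := fun h => hα (by simp [h])
      have hβ' : a ≠ β := fun h => hβ (by simp [h])
      obtain ⟨g, hga, hgα⟩ := h2 hα' hβ'
      refine ⟨⟨g, mem_stabilizer_iff.mpr hga⟩, ?_⟩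
      apply Subtype.ext
      rw [hsm]
      exact hgα)
    (by
      obtain ⟨x, hx1, hxa, hxb⟩ := zass_exists_tps_ne_one hZ (Ne.symm hba)
      refine ⟨⟨x, mem_stabilizer_iff.mpr hxa⟩, ?_, ⟨b, hba⟩, ?_⟩
      · intro h
        exact hx1 (congrArg Subtype.val h)
      · apply Subtype.ext
        rw [hsm]
        exact hxb)
    (by
      rintro ⟨g, hg⟩ hg1 ⟨α, hα⟩ ⟨β, hβ⟩ hgα hgβ
      have hα' : α ≠ a := hα
      have hβ' : β ≠ a := hβ
      have hgα' : g • α = α := congrArg Subtype.val hgα
      have hgβ' : g • β = β := congrArg Subtype.val hgβ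
      apply Subtype.ext
      by_contra hαβ
      apply hg1
      apply Subtype.ext
      exact h3 g a α β (Ne.symm hα') hαβ (Ne.symm hβ') (mem_stabilizer_iff.mp hg) hgα' hgβ')
  refine ⟨N.map (stabilizer G a).subtype, Subgroup.map_subtype_le N, ?_, ?_⟩
  · rw [Subgroup.card_map_of_injective (Subgroup.subtype_injective _), hNcard]
    exact hcard
  · rintro u hu hu1 c huc
    obtain ⟨g, hgN, rfl⟩ := Subgroup.mem_map.mp hu
    by_contra hca
    rcases (hNmem g).mp hgN with h1 | hfpf
    · apply hu1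
      rw [h1]
      rfl
    · apply hfpf ⟨c, hca⟩
      apply Subtype.ext
      rw [hsm]
      exact huc

end Cfsg.Agent.Helper6.Zass
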