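import Mathlib
import Cfsg.Agent.Helper6.Zass

set_option autoImplicit false

namespace Cfsg.Agent.Helper6.Zass

open MulAction

variable {G Ω : Type*} [Group G] [MulAction G Ω]

theorem fixedPoints_zpowers_eq (z : G) :
    fixedPoints (Subgroup.zpowers z) Ω = {c : Ω | z • c = c} := by
  ext c
  rw [mem_fixedPoints]
  constructor
  · intro h
    exact h ⟨z, Subgroup.mem_zpowers z⟩
  · intro (h : z • c = c) m
    obtain ⟨m, hm⟩ := m
    obtain ⟨k, rfl⟩ := Subgroup.mem_zpowers_iff.mp hm
    exact (mem_stabilizer_iff.mp ((stabilizer G c).zpow_mem (mem_stabilizer_iff.mpr h) k))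

/-- parity of the number of fixed points of an involution -/
theorem invol_fix_modEq [Fintype Ω] (s : G) (hs : orderOf s = 2)
    [DecidablePred (fun c : Ω => s • c = c)] :
    Fintype.card Ω ≡ (Finset.univ.filter (fun c : Ω => s • c = c)).card [MOD 2] := by
  haveI : Fact (Nat.Prime 2) := ⟨Nat.prime_two⟩
  have hP : IsPGroup 2 (Subgroup.zpowers s) := by
    apply IsPGroup.of_card (n := 1)
    rw [Nat.card_zpowers, hs, pow_one]
  have h := hP.card_modEq_card_fixedPoints Ω
  rw [fixedPoints_zpowers_eq, Nat.card_eq_fintype_card] at h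
  have : Nat.card ↥({c : Ω | s • c = c})
      = (Finset.univ.filter (fun c : Ω => s • c = c)).card := by
    rw [← natCard_subtype_eq_filter]
    rfl
  rw [this] at h
  exact h

theorem invol_unique_fix [Fintype Ω] (h3 : NoThree G Ω) (hnodd : Odd (Fintype.card Ω)) (s : G)
    (hs : orderOf s = 2) : ∃ c : Ω, ∀ d : Ω, s • d = d ↔ d = c := by
  classical
  have hs1 : s ≠ 1 := by
    rintro rfl
    rw [orderOf_one] at hs
    omega
  have hle := card_fix_le_two h3 hs1
  have hmod := invol_fix_modEq (Ω := Ω) s hs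
  have h1 : (Finset.univ.filter (fun c : Ω => s • c = c)).card = 1 := by
    obtain ⟨k, hk⟩ := hnodd
    unfold Nat.ModEq at hmod
    omega
  obtain ⟨c, hc⟩ := Finset.card_eq_one.mp h1
  refine ⟨c, fun d => ?_⟩
  have : d ∈ Finset.univ.filter (fun c : Ω => s • c = c) ↔ d ∈ ({c} : Finset Ω) := by rw [hc]
  simpa using this

/-- For odd degree, the number of involutions fixing a given point is at most the order of the
two-point stabilizer. -/
theorem invol_fix_count_le [Finite G] [Fintype Ω] (h2 : TwoTrans G Ω) (h3 : NoThree G Ω)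
    {a b : Ω} (hab : a ≠ b) (hnodd : Odd (Fintype.card Ω)) (hn : 3 ≤ Fintype.card Ω) :
    Nat.card {s : G // orderOf s = 2 ∧ s • a = a}
      ≤ Nat.card ↥(stabilizer G a ⊓ stabilizer G b : Subgroup G) := by
  classical
  haveI : Fintype G := Fintype.ofFinite G
  obtain ⟨n, hn'⟩ : ∃ n : ℕ, n = Fintype.card Ω := ⟨_, rfl⟩
  obtain ⟨e, he⟩ : ∃ e : ℕ, e = Nat.card ↥(stabilizer G a ⊓ stabilizer G b : Subgroup G) :=
    ⟨_, rfl⟩
  obtain ⟨I, hI⟩ : ∃ I : Finset G, I = Finset.univ.filter (fun s : G => orderOf s = 2) :=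
    ⟨_, rfl⟩
  have hIo : ∀ s ∈ I, orderOf s = 2 := by
    intro s hs
    rw [hI] at hs
    simpa using hs
  have hsq : ∀ s ∈ I, s * s = 1 := by
    intro s hs
    have := pow_orderOf_eq_one s
    rw [hIo s hs, sq] at this
    exact this
  -- (d)
  have hd : I.card * (n - 1) ≤ (n * n - n) * e := by
    have h1 : ∀ s ∈ I, n - 1 ≤ ((Finset.univ : Finset Ω).offDiag.filter
        (fun p : Ω × Ω => s • p.1 = p.2)).card := by
      intro s hsI
      obtain ⟨c, hc⟩ := invol_unique_fix h3 hnodd s (hIo s hsI)
      have hcard : ((Finset.univ : Finset Ω).erase c).card = n - 1 := by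
        rw [Finset.card_erase_of_mem (Finset.mem_univ c), Finset.card_univ, hn']
      rw [← hcard]
      apply Finset.card_le_card_of_injOn (fun p => (p, s • p))
      · intro p hp
        have hpc : p ≠ c := by
          have := Finset.mem_coe.mp hp
          exact Finset.ne_of_mem_erase this
        simp only [Finset.coe_filter, Finset.mem_offDiag, Finset.mem_univ, true_and,
          Set.mem_ofPred_eq]
        exact ⟨fun h => hpc ((hc p).mp h.symm), trivial⟩
      · intro p _ q _ hpq
        exact (Prod.mk.inj hpq).1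
    have h2' : I.card * (n - 1) ≤ ∑ s ∈ I, ((Finset.univ : Finset Ω).offDiag.filter
        (fun p : Ω × Ω => s • p.1 = p.2)).card := by
      rw [← smul_eq_mul, ← Finset.sum_const]
      exact Finset.sum_le_sum h1
    rw [sum_card_filter_comm] at h2'
    have h3' : ∀ p ∈ (Finset.univ : Finset Ω).offDiag,
        (I.filter (fun s : G => s • p.1 = p.2)).card ≤ e := by
      intro p hp
      have hpq : p.1 ≠ p.2 := by simpa using hp
      by_cases hemp : (I.filter (fun s : G => s • p.1 = p.2)) = ∅
      · rw [hemp]; simp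
      obtain ⟨s₁, hs₁⟩ := Finset.nonempty_iff_ne_empty.mpr hemp
      rw [Finset.mem_filter] at hs₁
      have hs₁' : s₁ • p.2 = p.1 := by
        rw [← hs₁.2, ← mul_smul, hsq s₁ hs₁.1, one_smul]
      rw [he, ← card_tps_eq h2 hab hpq, ← card_tps_filter]
      apply Finset.card_le_card_of_injOn (fun s => s₁⁻¹ * s)
      · intro s hs
        have hs' := Finset.mem_filter.mp (Finset.mem_coe.mp hs)
        have hs2 : s • p.2 = p.1 := by
          rw [← hs'.2, ← mul_smul, hsq s hs'.1, one_smul]
        simp only [Finset.coe_filter, Finset.mem_univ, true_and, Set.mem_ofPred_eq]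
        constructor
        · rw [mul_smul, hs'.2, inv_smul_eq_iff, hs₁.2]
        · rw [mul_smul, hs2, inv_smul_eq_iff, hs₁']
      · intro s _ t _ hst
        exact mul_left_cancel hst
    calc I.card * (n - 1) ≤ ∑ p ∈ (Finset.univ : Finset Ω).offDiag,
          (I.filter (fun s : G => s • p.1 = p.2)).card := h2'
      _ ≤ ∑ p ∈ (Finset.univ : Finset Ω).offDiag, e := Finset.sum_le_sum h3'
      _ = (n * n - n) * e := by
        rw [Finset.sum_const, Finset.offDiag_card, Finset.card_univ, smul_eq_mul, hn']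
  -- (e)
  have hJ : ∀ c : Ω, (I.filter (fun s : G => s • c = c)).card
      = (I.filter (fun s : G => s • a = a)).card := by
    intro c
    obtain ⟨g, hg⟩ := pretrans h2 a c
    have hginv : g⁻¹ • c = a := by rw [inv_smul_eq_iff, hg]
    apply Finset.card_nbij' (fun s => g⁻¹ * s * g) (fun s => g * s * g⁻¹)
    · intro s hs
      have hs' := Finset.mem_filter.mp (Finset.mem_coe.mp hs)
      simp only [Finset.coe_filter, Set.mem_ofPred_eq]
      refine ⟨?_, ?_⟩
      · rw [hI]
        simp only [Finset.mem_filter, Finset.mem_univ, true_and]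
        have := (MulAut.conj g⁻¹).orderOf_eq s
        rw [MulAut.conj_apply, inv_inv] at this
        rw [this]
        exact hIo s hs'.1
      · rw [mul_smul, mul_smul, hg, hs'.2, hginv]
    · intro s hs
      have hs' := Finset.mem_filter.mp (Finset.mem_coe.mp hs)
      simp only [Finset.coe_filter, Set.mem_ofPred_eq]
      refine ⟨?_, ?_⟩
      · rw [hI]
        simp only [Finset.mem_filter, Finset.mem_univ, true_and]
        have := (MulAut.conj g).orderOf_eq s
        rw [MulAut.conj_apply] at this
        rw [this]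
        exact hIo s hs'.1
      · rw [mul_smul, mul_smul, hginv, hs'.2, hg]
    · intro s _
      group
    · intro s _
      group
  have he' : n * (I.filter (fun s : G => s • a = a)).card = I.card := by
    have h1 : ∑ s ∈ I, (Finset.univ.filter (fun c : Ω => s • c = c)).card = I.card := by
      rw [Finset.card_eq_sum_ones]
      apply Finset.sum_congr rfl
      intro s hsI
      obtain ⟨c, hc⟩ := invol_unique_fix h3 hnodd s (hIo s hsI)
      rw [Finset.card_eq_one]
      refine ⟨c, ?_⟩
      ext d
      simp [hc d]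
    rw [sum_card_filter_comm] at h1
    rw [← h1, Finset.sum_congr rfl (fun c _ => hJ c), Finset.sum_const, Finset.card_univ,
      smul_eq_mul, hn']
  have hfin : Nat.card {s : G // orderOf s = 2 ∧ s • a = a}
      = (I.filter (fun s : G => s • a = a)).card := by
    rw [natCard_subtype_eq_filter, hI, Finset.filter_filter]
  rw [hfin, ← he]
  obtain ⟨J, hJdef⟩ : ∃ J : ℕ, J = (I.filter (fun s : G => s • a = a)).card := ⟨_, rfl⟩
  rw [← hJdef] at he' ⊢
  rw [← he'] at hd
  have hn3 : 3 ≤ n := by rw [hn']; exact hn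
  obtain ⟨m, rfl⟩ : ∃ m, n = m + 1 := ⟨n - 1, by omega⟩
  have e1 : (m + 1) * (m + 1) - (m + 1) = (m + 1) * m := by
    rw [Nat.sub_eq_iff_eq_add (by nlinarith)]; ring
  rw [e1, Nat.add_sub_cancel] at hd
  have hpos : 0 < (m + 1) * m := by
    have : 0 < m := by omega
    positivity
  have hd' : (m + 1) * m * J ≤ (m + 1) * m * e := by
    calc (m + 1) * m * J = (m + 1) * J * m := by ring
      _ ≤ (m + 1) * m * e := hd
  exact Nat.le_of_mul_le_mul_left hd' hpos

/-- Involutions of the kernel `H` commute. -/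
theorem invol_commute [Finite G] [Fintype Ω] (h2 : TwoTrans G Ω) (h3 : NoThree G Ω)
    {a b : Ω} (hab : a ≠ b) (hn : 3 ≤ Fintype.card Ω) (H : Subgroup G)
    (hHa : H ≤ stabilizer G a) (hHcard : Nat.card H + 1 = Fintype.card Ω)
    (hHfix : ∀ u ∈ H, u ≠ 1 → ∀ c : Ω, u • c = c → c = a)
    (x y : G) (hx : orderOf x = 2) (hxH : x ∈ H) (hyH : y ∈ H) : y * x = x * y := by
  classical
  haveI : Fintype G := Fintype.ofFinite G
  have hx1 : x ≠ 1 := by
    rintro rfl
    rw [orderOf_one] at hx
    omega
  have hxa : x • a = a := mem_stabilizer_iff.mp (hHa hxH)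
  -- n is odd
  have hnodd : Odd (Fintype.card Ω) := by
    have hmod := invol_fix_modEq (Ω := Ω) x hx
    have hfix : (Finset.univ.filter (fun c : Ω => x • c = c)) = {a} := by
      ext c
      simp only [Finset.mem_filter, Finset.mem_univ, true_and, Finset.mem_singleton]
      constructor
      · exact hHfix x hxH hx1 c
      · rintro rfl; exact hxa
    rw [hfix, Finset.card_singleton] at hmod
    rw [Nat.odd_iff]
    exact hmod
  have hJle := invol_fix_count_le h2 h3 hab hnodd hn
  rw [natCard_subtype_eq_filter] at hJle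
  obtain ⟨e, he⟩ : ∃ e : ℕ, e = Nat.card ↥(stabilizer G a ⊓ stabilizer G b : Subgroup G) :=
    ⟨_, rfl⟩
  rw [← he] at hJle
  have hepos : 0 < e := by rw [he]; exact Nat.card_pos
  obtain ⟨SN, hSN⟩ : ∃ SN : Finset G, SN = Finset.univ.filter (fun g : G => g • a = a) :=
    ⟨_, rfl⟩
  have hSNmem : ∀ g : G, g ∈ SN ↔ g • a = a := by
    intro g; rw [hSN]; simp
  -- card of SN
  have hSNcard : (SN.card + e) = Fintype.card Ω * e := by
    have h1 := card_group_eq_stab h2 a
    have h2' := card_group_eq h2 hab
    rw [← he] at h2'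
    rw [hSN, card_stab_filter]
    have hpos : 0 < Fintype.card Ω := by omega
    apply Nat.eq_of_mul_eq_mul_left hpos
    rw [Nat.mul_add, ← h1, h2']
    obtain ⟨m, hm⟩ : ∃ m, Fintype.card Ω = m + 1 := ⟨Fintype.card Ω - 1, by omega⟩
    rw [hm]
    have e1 : (m + 1) * (m + 1) - (m + 1) = (m + 1) * m := by
      rw [Nat.sub_eq_iff_eq_add (by nlinarith)]; ring
    rw [e1]
    ring
  obtain ⟨C, hC⟩ : ∃ C : Finset G, C = SN.filter (fun g : G => g * x = x * g) := ⟨_, rfl⟩
  -- image of conjugation
  have himg : (SN.image (fun v : G => v * x * v⁻¹)).card ≤ e := by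
    refine le_trans (Finset.card_le_card ?_) hJle
    intro z hz
    obtain ⟨v, hv, rfl⟩ := Finset.mem_image.mp hz
    have hva : v • a = a := (hSNmem v).mp hv
    have hvinv : v⁻¹ • a = a := by rw [inv_smul_eq_iff, hva]
    simp only [Finset.mem_filter, Finset.mem_univ, true_and]
    refine ⟨?_, ?_⟩
    · have := (MulAut.conj v).orderOf_eq x
      rw [MulAut.conj_apply] at this
      rw [this]
      exact hx
    · rw [mul_smul, mul_smul, hvinv, hxa, hva]
  have hfiber : ∀ z ∈ SN.image (fun v : G => v * x * v⁻¹),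
      (SN.filter (fun v : G => v * x * v⁻¹ = z)).card ≤ C.card := by
    intro z hz
    obtain ⟨v₀, hv₀, rfl⟩ := Finset.mem_image.mp hz
    have hv₀a : v₀ • a = a := (hSNmem v₀).mp hv₀
    apply Finset.card_le_card_of_injOn (fun v => v₀⁻¹ * v)
    · intro v hv
      have hv' := Finset.mem_filter.mp (Finset.mem_coe.mp hv)
      have hva : v • a = a := (hSNmem v).mp hv'.1
      rw [hC]
      simp only [Finset.coe_filter, Set.mem_ofPred_eq]
      refine ⟨?_, ?_⟩
      · rw [hSNmem, mul_smul, hva, inv_smul_eq_iff, hv₀a]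
      · have h := hv'.2
        have h' : v * x = v₀ * x * v₀⁻¹ * v := by
          rw [← h]; group
        calc v₀⁻¹ * v * x = v₀⁻¹ * (v * x) := by group
          _ = v₀⁻¹ * (v₀ * x * v₀⁻¹ * v) := by rw [h']
          _ = x * (v₀⁻¹ * v) := by group
    · intro s _ t _ hst
      exact mul_left_cancel hst
  have hmain := Finset.card_le_mul_card_image SN C.card hfiber
  have hCge : Fintype.card Ω ≤ C.card + 1 := by
    have h1 : SN.card ≤ C.card * e := le_trans hmain (Nat.mul_le_mul_left _ himg)
    have h2' : Fintype.card Ω * e ≤ (C.card + 1) * e := by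
      rw [← hSNcard, Nat.add_mul, one_mul]
      omega
    exact Nat.le_of_mul_le_mul_right h2' hepos
  -- C is contained in H
  have hCsub : C ⊆ Finset.univ.filter (fun g : G => g ∈ H) := by
    intro g hg
    rw [hC, Finset.mem_filter] at hg
    have hga : g • a = a := (hSNmem g).mp hg.1
    simp only [Finset.mem_filter, Finset.mem_univ, true_and]
    by_contra hgH
    have hg1 : g ≠ 1 := fun h => hgH (h ▸ H.one_mem)
    have hex : ∃ c : Ω, g • c = c ∧ c ≠ a := by
      by_contra hcon
      push Not at hcon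
      exact hgH (mem_of_fix_only h2 h3 hab H hHa hHcard hHfix g hga hg1 hcon)
    obtain ⟨c, hgc, hca⟩ := hex
    have hgxc : g • (x • c) = x • c := by
      rw [← mul_smul, hg.2, mul_smul, hgc]
    have hxc_ne_a : x • c ≠ a := by
      intro h
      apply hca
      have : x • c = x • a := by rw [h, hxa]
      exact smul_left_cancel x this
    have hxc_ne_c : x • c ≠ c := fun h => hca (hHfix x hxH hx1 c h)
    exact hg1 (h3 g a c (x • c) (Ne.symm hca) (Ne.symm hxc_ne_c) (Ne.symm hxc_ne_a) hga hgc hgxc)
  have hHc : (Finset.univ.filter (fun g : G => g ∈ H)).card = Nat.card H := by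
    rw [← natCard_subtype_eq_filter]
  have hCeq : C = Finset.univ.filter (fun g : G => g ∈ H) := by
    apply Finset.eq_of_subset_of_card_le hCsub
    rw [hHc]
    omega
  have hyC : y ∈ C := by
    rw [hCeq]
    simp only [Finset.mem_filter, Finset.mem_univ, true_and]
    exact hyH
  rw [hC, Finset.mem_filter] at hyC
  exact hyC.2

end Cfsg.Agent.Helper6.Zass
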