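import Mathlib
import Cfsg.Agent.Helper6.ZassFrob
import Cfsg.Agent.Helper6.ZassInv
import Cfsg.Agent.S0878

set_option autoImplicit false

namespace Cfsg.Agent.Helper6.Zass

open MulAction

variable {G Ω : Type*} [Group G] [MulAction G Ω]

theorem zass_finite [Finite Ω] (hZ : Cfsg.IsZassenhausGroup G Ω) : Finite G := by
  haveI := hZ.1
  exact Finite.of_injective (MulAction.toPerm : G → Equiv.Perm Ω) MulAction.toPerm_injective

/-- A non-trivial normal subgroup of a faithful doubly transitive group is transitive. -/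
theorem normal_pretrans (hfaith : FaithfulSMul G Ω) (h2 : TwoTrans G Ω) (M : Subgroup G)
    [M.Normal] (hM : M ≠ ⊥) : ∀ p q : Ω, ∃ m ∈ M, m • p = q := by
  obtain ⟨⟨m₀, hm₀⟩, hm₀1⟩ := (Subgroup.ne_bot_iff_exists_ne_one.mp hM)
  have hm₀' : (m₀ : G) ≠ 1 := fun h => hm₀1 (Subtype.ext h)
  have : ∃ c : Ω, (m₀ : G) • c ≠ c := by
    by_contra hcon
    push Not at hcon
    exact hm₀' (FaithfulSMul.eq_of_smul_eq_smul (α := Ω) (fun c => by rw [hcon c, one_smul]))
  obtain ⟨c, hc⟩ := this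
  intro p q
  by_cases hpq : p = q
  · exact ⟨1, M.one_mem, by rw [one_smul, hpq]⟩
  · obtain ⟨g, hgc, hgm⟩ := h2 (Ne.symm hc) hpq
    refine ⟨g * m₀ * g⁻¹, ‹M.Normal›.conj_mem _ hm₀ g, ?_⟩
    have : g⁻¹ • p = c := by rw [inv_smul_eq_iff, hgc]
    rw [mul_smul, mul_smul, this, hgm]

/-- A non-trivial normal subgroup of a Zassenhaus group contains a non-identity element fixing
two points. -/
theorem normal_exists_two_fix [Finite G] [Fintype Ω] (hZ : Cfsg.IsZassenhausGroup G Ω)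
    (M : Subgroup G) [hMn : M.Normal] (hM : M ≠ ⊥) :
    ∃ m ∈ M, m ≠ 1 ∧ ∃ a c : Ω, a ≠ c ∧ m • a = a ∧ m • c = c := by
  classical
  have h2 : TwoTrans G Ω := zass_twoTrans hZ
  have hn := zass_card_ge_three hZ
  have htr := normal_pretrans hZ.1 h2 M hM
  by_contra hcon
  push Not at hcon
  haveI : IsPretransitive M Ω := ⟨fun p q => by
    obtain ⟨m, hm, hmp⟩ := htr p q
    exact ⟨⟨m, hm⟩, hmp⟩⟩
  obtain ⟨a₁, ha₁⟩ := hZ.2.2.2.2 M hMn inferInstance
  obtain ⟨⟨m₁, hm₁⟩, hm₁1⟩ := (Subgroup.ne_bot_iff_exists_ne_one.mp ha₁)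
  obtain ⟨N, hNn, hNmem, hNcard⟩ := frob_kernel_of_action (G' := M) (Ω' := Ω) (by omega)
    (fun p q => by
      obtain ⟨m, hm, hmp⟩ := htr p q
      exact ⟨⟨m, hm⟩, hmp⟩)
    ⟨m₁, fun h => hm₁1 (Subtype.ext h), a₁, mem_stabilizer_iff.mp hm₁⟩
    (by
      rintro ⟨g, hg⟩ hg1 α β hgα hgβ
      by_contra hαβ
      have hg1' : g ≠ 1 := fun h => hg1 (Subtype.ext h)
      exact hcon g hg hg1' α β hαβ hgα hgβ)
  -- the kernel as a subgroup of G
  obtain ⟨K, hK⟩ : ∃ K : Subgroup G, K = N.map M.subtype := ⟨_, rfl⟩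
  have hKmem : ∀ k : G, k ∈ K ↔ k ∈ M ∧ (k = 1 ∨ ∀ ω : Ω, k • ω ≠ ω) := by
    intro k
    rw [hK, Subgroup.mem_map]
    constructor
    · rintro ⟨g, hgN, rfl⟩
      refine ⟨g.2, ?_⟩
      rcases (hNmem g).mp hgN with h1 | h1
      · left; rw [h1]; rfl
      · right; exact h1
    · rintro ⟨hkM, hk⟩
      refine ⟨⟨k, hkM⟩, (hNmem _).mpr ?_, rfl⟩
      rcases hk with h1 | h1
      · left; exact Subtype.ext h1
      · right; exact h1
  have hKcard : Nat.card K = Fintype.card Ω := by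
    rw [hK, Subgroup.card_map_of_injective (Subgroup.subtype_injective _), hNcard]
  have hKnormal : K.Normal := by
    constructor
    intro k hk x
    rw [hKmem] at hk ⊢
    refine ⟨hMn.conj_mem k hk.1 x, ?_⟩
    rcases hk.2 with h1 | h1
    · left; rw [h1]; group
    · right
      intro ω hω
      apply h1 (x⁻¹ • ω)
      rw [mul_smul, mul_smul, ← eq_inv_smul_iff] at hω
      exact hω
  have hKfree : ∀ k ∈ K, ∀ ω : Ω, k • ω = ω → k = 1 := by
    intro k hk ω hω
    rcases ((hKmem k).mp hk).2 with h1 | h1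
    · exact h1
    · exact absurd hω (h1 ω)
  -- K is transitive
  have hinj : Function.Injective (fun k : K => (k : G) • a₁) := by
    intro k k' hkk
    have h1 : ((k' : G)⁻¹ * (k : G)) • a₁ = a₁ := by
      rw [mul_smul, inv_smul_eq_iff]
      exact hkk
    have h2' := hKfree _ (K.mul_mem (K.inv_mem k'.2) k.2) a₁ h1
    apply Subtype.ext
    exact (inv_mul_eq_one.mp h2').symm
  have hbij : Function.Bijective (fun k : K => (k : G) • a₁) := by
    apply hinj.bijective_of_nat_card_le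
    rw [hKcard, Nat.card_eq_fintype_card]
  haveI : IsPretransitive K Ω := ⟨fun p q => by
    obtain ⟨k₁, hk₁⟩ := hbij.2 p
    obtain ⟨k₂, hk₂⟩ := hbij.2 q
    refine ⟨k₂ * k₁⁻¹, ?_⟩
    show ((k₂ * k₁⁻¹ : K) : G) • p = q
    rw [← hk₁, ← hk₂]
    simp only [Subgroup.coe_mul, Subgroup.coe_inv]
    rw [mul_smul, inv_smul_smul]⟩
  obtain ⟨a₂, ha₂⟩ := hZ.2.2.2.2 K hKnormal inferInstance
  obtain ⟨⟨k, hk⟩, hk1⟩ := (Subgroup.ne_bot_iff_exists_ne_one.mp ha₂)
  apply hk1
  apply Subtype.ext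
  apply Subtype.ext
  exact hKfree _ k.2 a₂ (mem_stabilizer_iff.mp hk)

/-- A normal subgroup containing a non-identity element fixing `a` and another point contains
the Frobenius kernel at `a`. -/
theorem kernel_le_normal [Finite G] (h3 : NoThree G Ω) (M : Subgroup G) [hMn : M.Normal]
    {a c : Ω} (hac : a ≠ c) (m : G) (hmM : m ∈ M) (hm1 : m ≠ 1) (hma : m • a = a)
    (hmc : m • c = c) (H : Subgroup G) (hHa : H ≤ stabilizer G a)
    (hHfix : ∀ u ∈ H, u ≠ 1 → ∀ d : Ω, u • d = d → d = a)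
    (hHnorm : ∀ g ∈ stabilizer G a, ∀ u ∈ H, g * u * g⁻¹ ∈ H) : H ≤ M := by
  have hminv : m⁻¹ ∈ stabilizer G a := inv_mem (mem_stabilizer_iff.mpr hma)
  have hφmem : ∀ u : H, m⁻¹ * (u : G)⁻¹ * m * (u : G) ∈ H := by
    intro u
    have := hHnorm m⁻¹ hminv _ (H.inv_mem u.2)
    rw [inv_inv] at this
    exact H.mul_mem this u.2
  have hinj : Function.Injective (fun u : H => (⟨_, hφmem u⟩ : H)) := by
    intro u v huv
    have h1 : m⁻¹ * (u : G)⁻¹ * m * (u : G) = m⁻¹ * (v : G)⁻¹ * m * (v : G) :=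
      congrArg Subtype.val huv
    have h2' : ((v : G) * (u : G)⁻¹) * m = m * ((v : G) * (u : G)⁻¹) := by
      have h3' : (u : G)⁻¹ * m * (u : G) = (v : G)⁻¹ * m * (v : G) := by
        have := congrArg (fun z => m * z) h1
        simp only [mul_assoc, mul_inv_cancel_left] at this
        simpa [mul_assoc] using this
      calc ((v : G) * (u : G)⁻¹) * m = (v : G) * ((u : G)⁻¹ * m * (u : G)) * (u : G)⁻¹ := by group
        _ = (v : G) * ((v : G)⁻¹ * m * (v : G)) * (u : G)⁻¹ := by rw [h3']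
        _ = m * ((v : G) * (u : G)⁻¹) := by group
    have hwH : (v : G) * (u : G)⁻¹ ∈ H := H.mul_mem v.2 (H.inv_mem u.2)
    have hw1 : (v : G) * (u : G)⁻¹ = 1 := by
      by_contra hw
      have hwa := hHfix _ hwH hw
      have hmw : m • (((v : G) * (u : G)⁻¹) • c) = ((v : G) * (u : G)⁻¹) • c := by
        rw [← mul_smul, ← h2', mul_smul, hmc]
      have hwc_ne_a : ((v : G) * (u : G)⁻¹) • c ≠ a := by
        intro h
        have h5 : ((v : G) * (u : G)⁻¹) • a = a := mem_stabilizer_iff.mp (hHa hwH)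
        have : ((v : G) * (u : G)⁻¹) • c = ((v : G) * (u : G)⁻¹) • a := by rw [h, h5]
        exact hac (smul_left_cancel _ this).symm
      have hwc_ne_c : ((v : G) * (u : G)⁻¹) • c ≠ c := fun h => hac (hwa c h).symm
      exact hm1 (h3 m a c _ hac (Ne.symm hwc_ne_c) (Ne.symm hwc_ne_a) hma hmc hmw)
    apply Subtype.ext
    exact (mul_inv_eq_one.mp hw1).symm
  have hsurj := Finite.injective_iff_surjective.mp hinj
  intro u hu
  obtain ⟨v, hv⟩ := hsurj ⟨u, hu⟩
  have hv' : m⁻¹ * (v : G)⁻¹ * m * (v : G) = u := congrArg Subtype.val hv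
  rw [← hv']
  have h1 : (v : G)⁻¹ * m * (v : G) ∈ M := by
    have := hMn.conj_mem m hmM (v : G)⁻¹
    rwa [inv_inv] at this
  have h2' : m⁻¹ * (v : G)⁻¹ * m * (v : G) = m⁻¹ * ((v : G)⁻¹ * m * (v : G)) := by group
  rw [h2']
  exact M.mul_mem (M.inv_mem hmM) h1

/-- For odd degree the two-point stabilizers have odd order. -/
theorem tps_odd_of_odd_degree [Finite G] [Fintype Ω] (h3 : NoThree G Ω)
    (hnodd : Odd (Fintype.card Ω)) {a b : Ω} (hab : a ≠ b) :
    Odd (Nat.card ↥(stabilizer G a ⊓ stabilizer G b : Subgroup G)) := by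
  rw [← Nat.not_even_iff_odd]
  intro heven
  haveI : Fact (Nat.Prime 2) := ⟨Nat.prime_two⟩
  obtain ⟨⟨x, hxE⟩, hx⟩ := exists_prime_orderOf_dvd_card' 2 (even_iff_two_dvd.mp heven)
  have hxo : orderOf x = 2 := by
    rw [← hx]; exact (Subgroup.orderOf_mk x hxE).symm
  rw [Subgroup.mem_inf, mem_stabilizer_iff, mem_stabilizer_iff] at hxE
  obtain ⟨c, hc⟩ := invol_unique_fix h3 hnodd x hxo
  exact hab (((hc a).mp hxE.1).trans ((hc b).mp hxE.2).symm)

/-- An involution interchanging two points, when the two-point stabilizer has odd order. -/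
theorem exists_swap_invol [Finite G] (h2 : TwoTrans G Ω) {a b : Ω} (hab : a ≠ b)
    (hodd : Odd (Nat.card ↥(stabilizer G a ⊓ stabilizer G b : Subgroup G))) :
    ∃ s : G, orderOf s = 2 ∧ s • a = b ∧ s • b = a := by
  obtain ⟨w, hwa, hwb⟩ := h2 hab (Ne.symm hab)
  obtain ⟨e, he⟩ : ∃ e : ℕ, e = Nat.card ↥(stabilizer G a ⊓ stabilizer G b : Subgroup G) :=
    ⟨_, rfl⟩
  rw [← he] at hodd
  have hw2 : w ^ 2 ∈ (stabilizer G a ⊓ stabilizer G b : Subgroup G) := by
    rw [Subgroup.mem_inf, mem_stabilizer_iff, mem_stabilizer_iff, sq, mul_smul, mul_smul,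
      hwa, hwb, hwa]
    exact ⟨rfl, rfl⟩
  have hpow : (w ^ 2) ^ e = 1 := by
    have h1 : (⟨w ^ 2, hw2⟩ : (stabilizer G a ⊓ stabilizer G b : Subgroup G)) ^ e = 1 := by
      rw [he]; exact pow_card_eq_one'
    exact congrArg Subtype.val h1
  have hfix : ∀ k : ℕ, (w ^ 2) ^ k • a = a ∧ (w ^ 2) ^ k • b = b := by
    intro k
    have := (stabilizer G a ⊓ stabilizer G b : Subgroup G).pow_mem hw2 k
    rw [Subgroup.mem_inf, mem_stabilizer_iff, mem_stabilizer_iff] at this
    exact this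
  obtain ⟨k, hk⟩ := hodd
  have hse : w ^ e = (w ^ 2) ^ k * w := by
    rw [hk, pow_succ, pow_mul]
  refine ⟨w ^ e, ?_, ?_, ?_⟩
  · haveI : Fact (Nat.Prime 2) := ⟨Nat.prime_two⟩
    apply orderOf_eq_prime
    · rw [← pow_mul, mul_comm, pow_mul, hpow]
    · intro h
      have : (w ^ e) • a = b := by rw [hse, mul_smul, hwa, (hfix k).2]
      rw [h, one_smul] at this
      exact hab this
  · rw [hse, mul_smul, hwa, (hfix k).2]
  · rw [hse, mul_smul, hwb, (hfix k).1]

/-- For odd degree, an involution interchanging `a` and `b` times any element of the two-point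
stabilizer is an involution. -/
theorem swap_invol_mul [Finite G] [Fintype Ω] (h3 : NoThree G Ω) (hnodd : Odd (Fintype.card Ω))
    {a b : Ω} (hab : a ≠ b) (s : G) (hs : orderOf s = 2) (hsa : s • a = b) (hsb : s • b = a)
    (g : G) (hga : g • a = a) (hgb : g • b = b) : orderOf (s * g) = 2 := by
  have hss : s * s = 1 := by
    have := pow_orderOf_eq_one s
    rwa [hs, sq] at this
  obtain ⟨r, hr⟩ := invol_unique_fix h3 hnodd s hs
  have hra : r ≠ a := by
    intro h
    have := (hr a).mpr h.symm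
    rw [hsa] at this
    exact hab this.symm
  have hrb : r ≠ b := by
    intro h
    have := (hr b).mpr h.symm
    rw [hsb] at this
    exact hab this
  have hEmem : ∀ y : G, y ∈ (stabilizer G a ⊓ stabilizer G b : Subgroup G)
      ↔ y • a = a ∧ y • b = b := fun y => by
    rw [Subgroup.mem_inf, mem_stabilizer_iff, mem_stabilizer_iff]
  -- centralizer of s in E is trivial
  have hcent : ∀ y : G, y • a = a → y • b = b → y * s = s * y → y = 1 := by
    intro y hya hyb hys
    have h1 : s • (y • r) = y • r := by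
      rw [← mul_smul, ← hys, mul_smul, (hr r).mpr rfl]
    have h2' : y • r = r := (hr _).mp h1
    exact h3 y a b r hab (Ne.symm hrb) (Ne.symm hra) hya hyb h2'
  have hψmem : ∀ y : (stabilizer G a ⊓ stabilizer G b : Subgroup G),
      (y : G)⁻¹ * (s * (y : G) * s) ∈ (stabilizer G a ⊓ stabilizer G b : Subgroup G) := by
    intro y
    have hy := (hEmem _).mp y.2
    have h1 : s * (y : G) * s ∈ (stabilizer G a ⊓ stabilizer G b : Subgroup G) := by
      rw [hEmem, mul_smul, mul_smul, mul_smul, mul_smul, hsa, hsb, hy.2, hy.1, hsa, hsb]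
      exact ⟨rfl, rfl⟩
    exact mul_mem (inv_mem y.2) h1
  have hinj : Function.Injective
      (fun y : (stabilizer G a ⊓ stabilizer G b : Subgroup G) =>
        (⟨_, hψmem y⟩ : (stabilizer G a ⊓ stabilizer G b : Subgroup G))) := by
    intro y z hyz
    have h1 : (y : G)⁻¹ * (s * (y : G) * s) = (z : G)⁻¹ * (s * (z : G) * s) :=
      congrArg Subtype.val hyz
    have h2' : (y : G)⁻¹ * s * (y : G) = (z : G)⁻¹ * s * (z : G) := by
      have := congrArg (fun t => t * s) h1
      simp only [mul_assoc, hss, mul_one] at this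
      simpa [mul_assoc] using this
    have hcomm : ((z : G) * (y : G)⁻¹) * s = s * ((z : G) * (y : G)⁻¹) := by
      calc ((z : G) * (y : G)⁻¹) * s = (z : G) * ((y : G)⁻¹ * s * (y : G)) * (y : G)⁻¹ := by group
        _ = (z : G) * ((z : G)⁻¹ * s * (z : G)) * (y : G)⁻¹ := by rw [h2']
        _ = s * ((z : G) * (y : G)⁻¹) := by group
    have hzy := (hEmem _).mp (mul_mem z.2 (inv_mem y.2))
    have := hcent _ hzy.1 hzy.2 hcomm
    apply Subtype.ext
    exact (mul_inv_eq_one.mp this).symm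
  have hsurj := Finite.injective_iff_surjective.mp hinj
  obtain ⟨y, hy⟩ := hsurj ⟨g, (hEmem g).mpr ⟨hga, hgb⟩⟩
  have hy' : (y : G)⁻¹ * (s * (y : G) * s) = g := congrArg Subtype.val hy
  haveI : Fact (Nat.Prime 2) := ⟨Nat.prime_two⟩
  apply orderOf_eq_prime
  · rw [sq, ← hy']
    have key : ∀ t : G, s * (t⁻¹ * (s * t * s)) * (s * (t⁻¹ * (s * t * s))) = 1 := by
      intro t
      have e1 : s * (t⁻¹ * (s * t * s)) * (s * (t⁻¹ * (s * t * s)))
          = s * t⁻¹ * s * t * (s * s) * t⁻¹ * s * t * s := by group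
      have e2 : s * t⁻¹ * s * t * 1 * t⁻¹ * s * t * s = s * t⁻¹ * (s * s) * t * s := by group
      have e3 : s * t⁻¹ * 1 * t * s = s * s := by group
      rw [e1, hss, e2, hss, e3, hss]
    exact key _
  · intro h
    have : (s * g) • a = b := by rw [mul_smul, hga, hsa]
    rw [h, one_smul] at this
    exact hab this

end Cfsg.Agent.Helper6.Zass
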