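import Cfsg.Agent.Helper6.BrauerInd
import Cfsg.Agent.Helper6.PiSection
import Cfsg.Agent.Helper6.PermChar
import Cfsg.Agent.Helper6.Clifford

set_option autoImplicit false

universe u

namespace Cfsg.Agent.Helper6

open Cfsg

namespace PRegChar

/-- The `p`-part of the group order times a character, cut down to the `p`-regular elements, is
a generalized character. -/
theorem p_regular_gen_char {G : Type u} [Group G] [Fintype G] (p : ℕ) [hpf : Fact p.Prime]
    (χ : G → ℂ) (hχc : IsCharacter G χ) :
    IsGeneralizedCharacter G (fun x : G => if p ∣ orderOf x then 0 else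
      ((p ^ (Nat.card G).factorization p : ℕ) : ℂ) * χ x) := by
  classical
  have hp : p.Prime := hpf.out
  obtain ⟨a, ha⟩ : ∃ a : ℕ, a = (Nat.card G).factorization p := ⟨_, rfl⟩
  rw [← ha]
  have hcf := Helper2.IsCharacter.isClassFunction hχc
  apply BrauerInd.brauer_characterization
  · intro g h
    have ho : orderOf (h * g * h⁻¹) = orderOf g := by
      have h1 : h * g * h⁻¹ = MulAut.conj h g := by simp [MulAut.conj_apply]
      rw [h1, MulEquiv.orderOf_eq]
    show (if p ∣ orderOf (h * g * h⁻¹) then (0 : ℂ) else _) = (if p ∣ orderOf g then 0 else _)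
    rw [ho, hcf g h]
  · intro E q hq hE
    haveI : Fintype E := Fintype.ofFinite _
    obtain ⟨i, hi⟩ : ∃ i : ℕ, i = (Nat.card E).factorization p := ⟨_, rfl⟩
    obtain ⟨s, hs⟩ : ∃ s : ℕ, s = p ^ i := ⟨_, rfl⟩
    obtain ⟨t, ht⟩ : ∃ t : ℕ, t = Nat.card E / p ^ i := ⟨_, rfl⟩
    have hE0 : Nat.card E ≠ 0 := Nat.card_pos.ne'
    have hst : Nat.card E = s * t := by
      rw [hs, ht, hi]
      exact (Nat.ordProj_mul_ordCompl_eq_self (Nat.card E) p).symm
    have hpt : Nat.Coprime p t := by
      rw [ht, hi]
      exact Nat.coprime_ordCompl hp hE0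
    have hcop : Nat.Coprime s t := by
      rw [hs]
      exact Nat.Coprime.pow_left i hpt
    obtain ⟨u, hu1, hu0'⟩ : ∃ u : ℕ, u ≡ 1 [MOD s] ∧ u ≡ 0 [MOD t] :=
      ⟨(Nat.chineseRemainder hcop 1 0 : ℕ), (Nat.chineseRemainder hcop 1 0).2.1,
        (Nat.chineseRemainder hcop 1 0).2.2⟩
    have hu0 : t ∣ u := (Nat.modEq_zero_iff_dvd).mp hu0'
    have hord : ∀ e : E, e ^ (s * t) = 1 := fun e => by
      rw [← hst]
      exact pow_card_eq_one'
    -- elements of order prime to `p` are killed by `t`
    have hreg : ∀ e : E, ¬ p ∣ orderOf e → e ^ t = 1 := by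
      intro e he
      have hco : Nat.Coprime (orderOf e) s := by
        rw [hs]
        exact Nat.Coprime.pow_right i ((Nat.Prime.coprime_iff_not_dvd hp).mpr he).symm
      exact orderOf_dvd_iff_pow_eq_one.mp
        (hco.dvd_of_dvd_mul_left (orderOf_dvd_of_pow_eq_one (hord e)))
    have hε : (∀ y : E, (∃ j : ℕ, y ^ (q ^ j) = 1) → y ^ u = y) ∨
        (∀ y : E, (∃ j : ℕ, y ^ (q ^ j) = 1) → y ^ u = 1) := by
      by_cases hqp : q = p
      · left
        rintro y ⟨j, hj⟩
        rw [hqp] at hj
        have ho : orderOf y ∣ p ^ j := orderOf_dvd_of_pow_eq_one hj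
        have hco : Nat.Coprime (orderOf y) t :=
          Nat.Coprime.coprime_dvd_left ho (Nat.Coprime.pow_left j hpt)
        have hys : y ^ s = 1 := orderOf_dvd_iff_pow_eq_one.mp
          (hco.dvd_of_dvd_mul_right (orderOf_dvd_of_pow_eq_one (hord y)))
        exact PiSection.pw_one s u hu1 y hys
      · right
        rintro y ⟨j, hj⟩
        have ho : orderOf y ∣ q ^ j := orderOf_dvd_of_pow_eq_one hj
        have hnp : ¬ p ∣ orderOf y := by
          intro hpo
          have h1 : p ∣ q ^ j := dvd_trans hpo ho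
          have h2 : p ∣ q := hp.dvd_of_dvd_pow h1
          exact hqp ((Nat.prime_dvd_prime_iff_eq hp hq).mp h2).symm
        exact PiSection.pw_zero t u hu0 y (hreg y hnp)
    let π : E →* E :=
      { toFun := fun e => e ^ u
        map_one' := one_pow u
        map_mul' := PiSection.pow_mul_of_isElementary hq hE u hε }
    obtain ⟨K, hK⟩ : ∃ K : Subgroup E, K = π.ker := ⟨_, rfl⟩
    haveI hKn : K.Normal := by
      rw [hK]
      infer_instance
    have hKmem : ∀ e : E, e ∈ K ↔ ¬ p ∣ orderOf e := by
      intro e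
      rw [hK, MonoidHom.mem_ker]
      show e ^ u = 1 ↔ _
      constructor
      · intro h hpo
        have h1 : p ∣ u := dvd_trans hpo (orderOf_dvd_of_pow_eq_one h)
        have h2 : p ∣ Nat.card E := dvd_trans hpo (orderOf_dvd_natCard e)
        have hi0 : i ≠ 0 := by
          rw [hi]
          intro h0
          rcases (Nat.factorization_eq_zero_iff _ _).mp h0 with h3 | h3 | h3
          · exact h3 hp
          · exact h3 h2
          · exact hE0 h3
        have h3 : p ∣ s := by
          rw [hs]
          exact dvd_pow_self p hi0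
        have h4 : u ≡ 1 [MOD p] := hu1.of_dvd h3
        have h5 : (0 : ℕ) ≡ 1 [MOD p] := ((Nat.modEq_zero_iff_dvd).mpr h1).symm.trans h4
        have h6 : p ∣ 1 := (Nat.modEq_zero_iff_dvd).mp h5.symm
        exact hp.one_lt.ne' (Nat.dvd_one.mp h6)
      · intro h
        exact PiSection.pw_zero t u hu0 e (hreg e h)
    -- the index of `K` is a power of `p` dividing the `p`-part of `|G|`
    obtain ⟨j, hj, hja⟩ : ∃ j : ℕ, K.index = p ^ j ∧ j ≤ a := by
      have hpg : IsPGroup p (E ⧸ K) := by
        intro x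
        induction x using QuotientGroup.induction_on with
        | H e =>
          refine ⟨i, ?_⟩
          rw [← QuotientGroup.mk_pow, QuotientGroup.eq_one_iff, hK, MonoidHom.mem_ker]
          show (e ^ p ^ i) ^ u = 1
          obtain ⟨w, hw⟩ := hu0
          rw [← hs, ← pow_mul, hw, ← mul_assoc, pow_mul, hord, one_pow]
      obtain ⟨j, hj⟩ := IsPGroup.iff_card.mp hpg
      refine ⟨j, hj, ?_⟩
      have h1 : p ^ j ∣ Nat.card G := by
        have h2 : K.index ∣ Nat.card E := Subgroup.index_dvd_card K
        have h3 : Nat.card E ∣ Nat.card G := Subgroup.card_subgroup_dvd_card E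
        have h4 : K.index = p ^ j := hj
        rw [← h4]
        exact dvd_trans h2 h3
      rw [ha]
      exact (Nat.Prime.pow_dvd_iff_le_factorization hp Nat.card_pos.ne').mp h1
    -- the permutation character on the cosets of `K`
    have hΨc : IsCharacter E (indFun K (fun _ => (1 : ℂ))) :=
      Helper2.isCharacter_indFun K Helper2.isCharacter_one
    have hΨ1 : ∀ e : E, e ∈ K → indFun K (fun _ => (1 : ℂ)) e = (p ^ j : ℕ) := by
      intro e he
      rw [PermChar.indFun_one_apply]
      have h1 : ∀ g : E, (if g⁻¹ * e * g ∈ K then (1 : ℂ) else 0) = 1 := by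
        intro g
        rw [if_pos]
        have h2 := hKn.conj_mem e he g⁻¹
        rwa [inv_inv] at h2
      rw [Finset.sum_congr rfl (fun g _ => h1 g), Finset.sum_const, Finset.card_univ,
        nsmul_eq_mul, mul_one, ← Nat.card_eq_fintype_card, ← hj]
      have h3 : (Nat.card K : ℂ) ≠ 0 := by exact_mod_cast Nat.card_pos.ne'
      have h4 : (Nat.card E : ℂ) = (Nat.card K : ℂ) * (K.index : ℂ) := by
        exact_mod_cast (Subgroup.card_mul_index K).symm
      rw [h4, ← mul_assoc, inv_mul_cancel₀ h3, one_mul]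
    have hΨ0 : ∀ e : E, e ∉ K → indFun K (fun _ => (1 : ℂ)) e = 0 :=
      fun e he => indFun_apply_of_not_mem K _ he
    have hres : IsCharacter E (fun e : E => χ (e : G)) := Helper24.isCharacter_restrict E hχc
    have heq : (fun e : E => if p ∣ orderOf (e : G) then (0 : ℂ) else
        ((p ^ a : ℕ) : ℂ) * χ (e : G)) =
        (p ^ (a - j)) • (indFun K (fun _ => (1 : ℂ)) * fun e : E => χ (e : G)) := by
      funext e
      rw [Subgroup.orderOf_coe]
      simp only [Pi.smul_apply, Pi.mul_apply, nsmul_eq_mul]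
      by_cases hpo : p ∣ orderOf e
      · rw [if_pos hpo, hΨ0 e (fun h => (hKmem e).mp h hpo)]
        simp
      · rw [if_neg hpo, hΨ1 e ((hKmem e).mpr hpo)]
        have h5 : p ^ a = p ^ (a - j) * p ^ j := by
          rw [← pow_add, Nat.sub_add_cancel hja]
        rw [h5]
        push_cast
        ring
    rw [heq]
    exact Helper10.isGeneralizedCharacter_of_char
      (Helper2.IsCharacter.nsmul (Helper2.IsCharacter.mul hΨc hres) _)

end PRegChar

end Cfsg.Agent.Helper6
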