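import Mathlib
import Cfsg.Prelude.Def_ClassicalGeometry

set_option autoImplicit false

namespace Cfsg.Agent.Helper6

open Matrix

variable {F : Type*} [CommRing F] (m : ℕ)

theorem J_mulVec_J_mulVec (v : Fin m ⊕ Fin m → F) :
    Matrix.J (Fin m) F *ᵥ (Matrix.J (Fin m) F *ᵥ v) = -v := by
  rw [Matrix.mulVec_mulVec, Matrix.J_squared, Matrix.neg_mulVec, Matrix.one_mulVec]

theorem vecMul_J (v : Fin m ⊕ Fin m → F) :
    v ᵥ* Matrix.J (Fin m) F = -(Matrix.J (Fin m) F *ᵥ v) := by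
  rw [← Matrix.mulVec_transpose, Matrix.J_transpose, Matrix.neg_mulVec]

theorem J_mulVec_vecMul_J (v : Fin m ⊕ Fin m → F) :
    (Matrix.J (Fin m) F *ᵥ v) ᵥ* Matrix.J (Fin m) F = v := by
  rw [vecMul_J, J_mulVec_J_mulVec, neg_neg]

theorem J_mulVec_apply_inl (v : Fin m ⊕ Fin m → F) (i : Fin m) :
    (Matrix.J (Fin m) F *ᵥ v) (Sum.inl i) = -v (Sum.inr i) := by
  simp [Matrix.J, Matrix.fromBlocks_mulVec, Matrix.neg_mulVec]

theorem J_mulVec_apply_inr (v : Fin m ⊕ Fin m → F) (i : Fin m) :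
    (Matrix.J (Fin m) F *ᵥ v) (Sum.inr i) = v (Sum.inl i) := by
  simp [Matrix.J, Matrix.fromBlocks_mulVec]

theorem dotProduct_J_mulVec_self (v : Fin m ⊕ Fin m → F) :
    v ⬝ᵥ (Matrix.J (Fin m) F *ᵥ v) = 0 := by
  simp only [dotProduct, Fintype.sum_sum_type, J_mulVec_apply_inl, J_mulVec_apply_inr]
  rw [← Finset.sum_add_distrib]
  apply Finset.sum_eq_zero
  intro i _
  ring

theorem J_mulVec_dotProduct_self (v : Fin m ⊕ Fin m → F) :
    (Matrix.J (Fin m) F *ᵥ v) ⬝ᵥ v = 0 := by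
  rw [dotProduct_comm, dotProduct_J_mulVec_self]

theorem sympTransvection_mem (v : Fin m ⊕ Fin m → F) (c : F) :
    Cfsg.sympTransvection m v c ∈ Matrix.symplecticGroup (Fin m) F := by
  rw [SymplecticGroup.mem_iff, Cfsg.sympTransvection]
  set w := Matrix.J (Fin m) F *ᵥ v with hw
  have e1 : vecMulVec v w * Matrix.J (Fin m) F = vecMulVec v v := by
    rw [Matrix.vecMulVec_mul, hw, J_mulVec_vecMul_J]
  have e2 : Matrix.J (Fin m) F * vecMulVec w v = -vecMulVec v v := by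
    rw [Matrix.mul_vecMulVec, hw, J_mulVec_J_mulVec, Matrix.neg_vecMulVec]
  have e3 : vecMulVec v v * vecMulVec w v = 0 := by
    rw [Matrix.vecMulVec_mul_vecMulVec, hw, dotProduct_J_mulVec_self, zero_smul,
      Matrix.vecMulVec_zero]
  rw [Matrix.transpose_add, Matrix.transpose_one, Matrix.transpose_smul,
    Matrix.transpose_vecMulVec, Matrix.add_mul, Matrix.one_mul, Matrix.smul_mul, e1,
    Matrix.mul_add, Matrix.mul_one, Matrix.add_mul, Matrix.mul_smul, e2, Matrix.smul_mul,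
    Matrix.mul_smul, e3]
  simp

theorem sympTransvection_mul (v : Fin m ⊕ Fin m → F) (c d : F) :
    Cfsg.sympTransvection m v c * Cfsg.sympTransvection m v d =
      Cfsg.sympTransvection m v (c + d) := by
  simp only [Cfsg.sympTransvection, Matrix.add_mul, Matrix.mul_add, Matrix.one_mul, Matrix.mul_one,
    Matrix.smul_mul, Matrix.mul_smul, Matrix.vecMulVec_mul_vecMulVec, J_mulVec_dotProduct_self,
    zero_smul, Matrix.vecMulVec_zero, smul_zero, add_zero, add_smul]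
  abel

theorem sympTransvection_conj (v : Fin m ⊕ Fin m → F)
    (A : Matrix (Fin m ⊕ Fin m) (Fin m ⊕ Fin m) F) (a : F)
    (hA : A ∈ Matrix.symplecticGroup (Fin m) F) (hv : A *ᵥ v = a • v) (c : F) :
    A * Cfsg.sympTransvection m v c * A⁻¹ = Cfsg.sympTransvection m v (a * a * c) := by
  have hdet : IsUnit A.det := SymplecticGroup.symplectic_det hA
  have hinv : A * A⁻¹ = 1 := Matrix.mul_nonsing_inv A hdet
  set w := Matrix.J (Fin m) F *ᵥ v with hw
  have e1 : w ᵥ* A⁻¹ = a • w := by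
    rw [SymplecticGroup.inv_eq_symplectic_inv A hA, ← Matrix.vecMul_vecMul, ← Matrix.vecMul_vecMul,
      Matrix.vecMul_neg, hw, J_mulVec_vecMul_J, Matrix.neg_vecMul, Matrix.vecMul_transpose, hv,
      Matrix.neg_vecMul, Matrix.smul_vecMul, vecMul_J, smul_neg, neg_neg]
  rw [Cfsg.sympTransvection, Matrix.mul_add, Matrix.mul_one, Matrix.add_mul, hinv,
    Matrix.mul_smul, Matrix.smul_mul, Matrix.mul_vecMulVec, Matrix.vecMulVec_mul, hv, e1,
    Cfsg.sympTransvection]
  congr 1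
  ext i j
  simp only [Matrix.smul_apply, Matrix.vecMulVec_apply, Pi.smul_apply, smul_eq_mul]
  ring

end Cfsg.Agent.Helper6
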