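import Cfsg.Agent.Helper6.ConjChar

set_option autoImplicit false

namespace Cfsg.Agent.Helper6

open Cfsg Finset

section DetTrace

variable {V : Type*} [AddCommGroup V] [Module ℂ V] [FiniteDimensional ℂ V]

/-- The determinant of a scalar perturbation of the identity along an idempotent. -/
theorem det_one_add_smul_idem (e : Module.End ℂ V) (he : IsIdempotentElem e) (a : ℂ) :
    LinearMap.det (1 + a • e) = (1 + a) ^ Module.finrank ℂ (LinearMap.range e) := by
  have hc : IsCompl (LinearMap.range e) (LinearMap.ker e) := LinearMap.IsIdempotentElem.isCompl he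
  let φ := Submodule.prodEquivOfIsCompl (LinearMap.range e) (LinearMap.ker e) hc
  have hconj : (1 + a • e : Module.End ℂ V) =
      (φ : _ →ₗ[ℂ] V) ∘ₗ (LinearMap.prodMap ((1 + a) • (LinearMap.id : Module.End ℂ (LinearMap.range e)))
        (LinearMap.id : Module.End ℂ (LinearMap.ker e))) ∘ₗ (φ.symm : V →ₗ[ℂ] _) := by
    apply LinearMap.ext
    intro v
    obtain ⟨⟨x, y⟩, rfl⟩ := φ.surjective v
    have hx : e (x : V) = x := (LinearMap.IsIdempotentElem.mem_range_iff he).mp x.2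
    have hy : e (y : V) = 0 := LinearMap.mem_ker.mp y.2
    have hφ : φ (x, y) = (x : V) + (y : V) := by
      simp [φ, Submodule.coe_prodEquivOfIsCompl']
    simp only [LinearMap.add_apply, Module.End.one_apply, LinearMap.smul_apply, LinearMap.coe_comp,
      LinearEquiv.coe_coe, Function.comp_apply, LinearEquiv.symm_apply_apply,
      LinearMap.prodMap_apply, LinearMap.id_coe, id_eq]
    have hφ2 : φ ((1 + a) • x, y) = ((1 + a) • x : LinearMap.range e) + (y : V) := by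
      simp [φ, Submodule.coe_prodEquivOfIsCompl']
    rw [hφ2, hφ, map_add, hx, hy]
    simp only [Submodule.coe_smul]
    module
  rw [hconj, LinearMap.det_conj, LinearMap.det_prodMap, LinearMap.det_smul, LinearMap.det_id,
    LinearMap.det_id, mul_one, mul_one]

/-- The discrete Fourier projections of an endomorphism of finite order. -/
noncomputable def dftIdem (A : Module.End ℂ V) (N : ℕ) (ζ : ℂ) (j : ℕ) : Module.End ℂ V :=
  (N : ℂ)⁻¹ • ∑ m ∈ range N, ((ζ ^ j)⁻¹) ^ m • A ^ m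

omit [FiniteDimensional ℂ V] in
theorem mul_dft_sum (A : Module.End ℂ V) (N : ℕ) (hA : A ^ N = 1) (c : ℂ) (hc0 : c ≠ 0)
    (hc : c ^ N = 1) :
    A * ∑ m ∈ range N, (c⁻¹) ^ m • A ^ m = c • ∑ m ∈ range N, (c⁻¹) ^ m • A ^ m := by
  have hB : (c⁻¹ • A) ^ N = 1 := by
    rw [smul_pow, hA, inv_pow, hc, inv_one, one_smul]
  have h1 := mul_geom_sum (c⁻¹ • A) N
  rw [hB, sub_self, sub_mul, one_mul, sub_eq_zero] at h1
  have h2 : ∑ m ∈ range N, (c⁻¹ • A) ^ m = ∑ m ∈ range N, (c⁻¹) ^ m • A ^ m :=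
    Finset.sum_congr rfl fun m _ => smul_pow _ _ _
  rw [h2, smul_mul_assoc] at h1
  calc A * ∑ m ∈ range N, (c⁻¹) ^ m • A ^ m
      = c • (c⁻¹ • (A * ∑ m ∈ range N, (c⁻¹) ^ m • A ^ m)) := by
        rw [smul_smul, mul_inv_cancel₀ hc0, one_smul]
    _ = c • ∑ m ∈ range N, (c⁻¹) ^ m • A ^ m := by rw [h1]

omit [FiniteDimensional ℂ V] in
theorem mul_dftIdem (A : Module.End ℂ V) (N : ℕ) (hA : A ^ N = 1) (ζ : ℂ) (hζ0 : ζ ≠ 0)
    (hζ : ζ ^ N = 1) (j : ℕ) : A * dftIdem A N ζ j = ζ ^ j • dftIdem A N ζ j := by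
  unfold dftIdem
  rw [mul_smul_comm, mul_dft_sum A N hA (ζ ^ j) (pow_ne_zero j hζ0)
    (by rw [← pow_mul, mul_comm, pow_mul, hζ, one_pow]), smul_comm]

omit [FiniteDimensional ℂ V] in
theorem pow_mul_dftIdem (A : Module.End ℂ V) (N : ℕ) (hA : A ^ N = 1) (ζ : ℂ) (hζ0 : ζ ≠ 0)
    (hζ : ζ ^ N = 1) (j m : ℕ) : A ^ m * dftIdem A N ζ j = (ζ ^ j) ^ m • dftIdem A N ζ j := by
  induction m with
  | zero => simp
  | succ m ih =>
    rw [pow_succ, mul_assoc, mul_dftIdem A N hA ζ hζ0 hζ, mul_smul_comm, ih, smul_smul, pow_succ,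
      mul_comm]

omit [FiniteDimensional ℂ V] in
theorem dftIdem_isIdempotent (A : Module.End ℂ V) (N : ℕ) (hN : 0 < N) (hA : A ^ N = 1) (ζ : ℂ)
    (hζ0 : ζ ≠ 0) (hζ : ζ ^ N = 1) (j : ℕ) : IsIdempotentElem (dftIdem A N ζ j) := by
  have hNne : (N : ℂ) ≠ 0 := Nat.cast_ne_zero.mpr hN.ne'
  have hc0 : ζ ^ j ≠ 0 := pow_ne_zero j hζ0
  unfold IsIdempotentElem
  have h1 : dftIdem A N ζ j * dftIdem A N ζ j =
      (N : ℂ)⁻¹ • ∑ m ∈ range N, ((ζ ^ j)⁻¹) ^ m • (A ^ m * dftIdem A N ζ j) := by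
    conv_lhs => rw [dftIdem]
    rw [smul_mul_assoc, Finset.sum_mul]
    congr 1
  rw [h1]
  have h2 : ∀ m ∈ range N, ((ζ ^ j)⁻¹) ^ m • (A ^ m * dftIdem A N ζ j) = dftIdem A N ζ j := by
    intro m _
    rw [pow_mul_dftIdem A N hA ζ hζ0 hζ, smul_smul, ← mul_pow, inv_mul_cancel₀ hc0, one_pow,
      one_smul]
  rw [Finset.sum_congr rfl h2, Finset.sum_const, card_range, ← Nat.cast_smul_eq_nsmul ℂ, smul_smul,
    inv_mul_cancel₀ hNne, one_smul]

omit [FiniteDimensional ℂ V] in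
theorem sum_dftIdem (A : Module.End ℂ V) (N : ℕ) (hN : 0 < N) (ζ : ℂ)
    (hζ : IsPrimitiveRoot ζ N) : ∑ j ∈ range N, dftIdem A N ζ j = 1 := by
  have hNne : (N : ℂ) ≠ 0 := Nat.cast_ne_zero.mpr hN.ne'
  have hζ0 : ζ ≠ 0 := hζ.ne_zero hN.ne'
  have hζN : ζ ^ N = 1 := hζ.pow_eq_one
  unfold dftIdem
  rw [← Finset.smul_sum, Finset.sum_comm]
  have h1 : ∀ m ∈ range N, ∑ j ∈ range N, ((ζ ^ j)⁻¹) ^ m • A ^ m =
      (if m = 0 then (N : ℂ) else 0) • A ^ m := by
    intro m hm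
    have hmN : m < N := Finset.mem_range.mp hm
    rw [← Finset.sum_smul]
    congr 1
    have h2 : ∀ j ∈ range N, ((ζ ^ j)⁻¹) ^ m = ((ζ ^ m)⁻¹) ^ j := by
      intro j _
      rw [inv_pow, inv_pow, ← pow_mul, ← pow_mul, mul_comm]
    rw [Finset.sum_congr rfl h2]
    by_cases h0 : m = 0
    · rw [if_pos h0, h0]
      simp
    · rw [if_neg h0]
      have hne : (ζ ^ m)⁻¹ ≠ 1 := by
        intro h1
        have h3 : ζ ^ m = 1 := by rw [← inv_inv (ζ ^ m), h1, inv_one]
        have h4 := hζ.pow_inj hmN hN (by rw [h3, pow_zero])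
        exact h0 h4
      have hpow : ((ζ ^ m)⁻¹) ^ N = 1 := by
        rw [inv_pow, ← pow_mul, mul_comm, pow_mul, hζN, one_pow, inv_one]
      rw [geom_sum_eq hne, hpow, sub_self, zero_div]
  rw [Finset.sum_congr rfl h1, Finset.sum_eq_single 0]
  · rw [if_pos rfl, pow_zero, smul_smul, inv_mul_cancel₀ hNne, one_smul]
  · intro m _ hm
    rw [if_neg hm, zero_smul]
  · intro h
    exact absurd (Finset.mem_range.mpr hN) h

omit [FiniteDimensional ℂ V] in
theorem dftIdem_mul_of_ne (A : Module.End ℂ V) (N : ℕ) (hA : A ^ N = 1) (ζ : ℂ)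
    (hζ : IsPrimitiveRoot ζ N) {i j : ℕ} (hi : i < N) (hj : j < N) (hij : i ≠ j) :
    dftIdem A N ζ i * dftIdem A N ζ j = 0 := by
  have hN : 0 < N := lt_of_le_of_lt (Nat.zero_le i) hi
  have hζ0 : ζ ≠ 0 := hζ.ne_zero hN.ne'
  have hζN : ζ ^ N = 1 := hζ.pow_eq_one
  have hcomm : ∀ k : ℕ, Commute A (dftIdem A N ζ k) := by
    intro k
    unfold dftIdem
    apply Commute.smul_right
    apply Commute.sum_right
    intro m _
    apply Commute.smul_right
    exact (Commute.refl A).pow_right m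
  have hcomm2 : Commute (dftIdem A N ζ i) (dftIdem A N ζ j) := by
    have : ∀ k : ℕ, Commute (dftIdem A N ζ k) A := fun k => (hcomm k).symm
    conv_rhs => rw [dftIdem]
    apply Commute.smul_right
    apply Commute.sum_right
    intro m _
    apply Commute.smul_right
    exact (this i).pow_right m
  have h1 : A * (dftIdem A N ζ i * dftIdem A N ζ j) =
      ζ ^ i • (dftIdem A N ζ i * dftIdem A N ζ j) := by
    rw [← mul_assoc, mul_dftIdem A N hA ζ hζ0 hζN, smul_mul_assoc]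
  have h2 : A * (dftIdem A N ζ i * dftIdem A N ζ j) =
      ζ ^ j • (dftIdem A N ζ i * dftIdem A N ζ j) := by
    rw [hcomm2.eq, ← mul_assoc, mul_dftIdem A N hA ζ hζ0 hζN, smul_mul_assoc]
  have h3 : (ζ ^ i - ζ ^ j) • (dftIdem A N ζ i * dftIdem A N ζ j) = 0 := by
    rw [sub_smul, ← h1, ← h2, sub_self]
  rcases smul_eq_zero.mp h3 with h | h
  · exfalso
    exact hij (hζ.pow_inj hi hj (sub_eq_zero.mp h))
  · exact h

theorem trace_dftIdem (A : Module.End ℂ V) (N : ℕ) (hN : 0 < N) (hA : A ^ N = 1) (ζ : ℂ)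
    (hζ0 : ζ ≠ 0) (hζ : ζ ^ N = 1) (j : ℕ) :
    (Module.finrank ℂ (LinearMap.range (dftIdem A N ζ j)) : ℂ) =
      (N : ℂ)⁻¹ * ∑ m ∈ range N, ((ζ ^ j)⁻¹) ^ m * LinearMap.trace ℂ V (A ^ m) := by
  have h := (LinearMap.IsIdempotentElem.isProj_range _
    (dftIdem_isIdempotent A N hN hA ζ hζ0 hζ j)).trace
  rw [← h]
  unfold dftIdem
  rw [map_smul, map_sum, smul_eq_mul]
  congr 1
  exact Finset.sum_congr rfl fun m _ => by rw [map_smul, smul_eq_mul]

/-- The determinant of an endomorphism of finite order in terms of the ranks of its Fourier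
projections. -/
theorem det_eq_prod_dft (A : Module.End ℂ V) (N : ℕ) (hN : 0 < N) (hA : A ^ N = 1) (ζ : ℂ)
    (hζ : IsPrimitiveRoot ζ N) :
    LinearMap.det A =
      ∏ j ∈ range N, (ζ ^ j) ^ Module.finrank ℂ (LinearMap.range (dftIdem A N ζ j)) := by
  have hζ0 : ζ ≠ 0 := hζ.ne_zero hN.ne'
  have hζN : ζ ^ N = 1 := hζ.pow_eq_one
  have key : ∀ J : ℕ, J ≤ N →
      LinearMap.det (1 + ∑ j ∈ range J, (ζ ^ j - 1) • dftIdem A N ζ j) =
        ∏ j ∈ range J, (ζ ^ j) ^ Module.finrank ℂ (LinearMap.range (dftIdem A N ζ j)) := by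
    intro J
    induction J with
    | zero =>
      intro _
      simp
    | succ J ih =>
      intro hJ
      have hJN : J < N := hJ
      have hstep : (1 + ∑ j ∈ range (J + 1), (ζ ^ j - 1) • dftIdem A N ζ j : Module.End ℂ V) =
          (1 + ∑ j ∈ range J, (ζ ^ j - 1) • dftIdem A N ζ j) *
            (1 + (ζ ^ J - 1) • dftIdem A N ζ J) := by
        rw [Finset.sum_range_succ, mul_add, mul_one, add_mul, one_mul, Finset.sum_mul]
        have hz : ∑ j ∈ range J, (ζ ^ j - 1) • dftIdem A N ζ j * (ζ ^ J - 1) • dftIdem A N ζ J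
            = 0 := by
          apply Finset.sum_eq_zero
          intro j hj
          have hjJ : j < J := Finset.mem_range.mp hj
          rw [smul_mul_smul_comm, dftIdem_mul_of_ne A N hA ζ hζ (lt_trans hjJ hJN) hJN hjJ.ne,
            smul_zero]
        rw [hz, add_zero, add_assoc]
      rw [hstep, map_mul, ih (Nat.le_of_lt hJN),
        det_one_add_smul_idem _ (dftIdem_isIdempotent A N hN hA ζ hζ0 hζN J), add_sub_cancel,
        Finset.prod_range_succ]
  have hA' : (1 + ∑ j ∈ range N, (ζ ^ j - 1) • dftIdem A N ζ j : Module.End ℂ V) = A := by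
    have h1 : ∑ j ∈ range N, (ζ ^ j - 1) • dftIdem A N ζ j =
        ∑ j ∈ range N, A * dftIdem A N ζ j - ∑ j ∈ range N, dftIdem A N ζ j := by
      rw [← Finset.sum_sub_distrib]
      refine Finset.sum_congr rfl fun j _ => ?_
      rw [sub_smul, one_smul, mul_dftIdem A N hA ζ hζ0 hζN]
    rw [h1, ← Finset.mul_sum, sum_dftIdem A N hN ζ hζ, mul_one]
    abel
  rw [← key N le_rfl, hA']

/-- Two endomorphisms of the same finite order with equal power traces have equal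
determinants. -/
theorem det_eq_of_trace_pow_eq {W : Type*} [AddCommGroup W] [Module ℂ W] [FiniteDimensional ℂ W]
    (A : Module.End ℂ V) (B : Module.End ℂ W) (N : ℕ) (hN : 0 < N) (hA : A ^ N = 1)
    (hB : B ^ N = 1)
    (h : ∀ m : ℕ, LinearMap.trace ℂ V (A ^ m) = LinearMap.trace ℂ W (B ^ m)) :
    LinearMap.det A = LinearMap.det B := by
  have hζ := Complex.isPrimitiveRoot_exp N hN.ne'
  set ζ := Complex.exp (2 * Real.pi * Complex.I / N) with hζdef
  have hζ0 : ζ ≠ 0 := hζ.ne_zero hN.ne'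
  have hζN : ζ ^ N = 1 := hζ.pow_eq_one
  rw [det_eq_prod_dft A N hN hA ζ hζ, det_eq_prod_dft B N hN hB ζ hζ]
  refine Finset.prod_congr rfl fun j _ => ?_
  have h1 := trace_dftIdem A N hN hA ζ hζ0 hζN j
  have h2 := trace_dftIdem B N hN hB ζ hζ0 hζN j
  have h3 : (Module.finrank ℂ (LinearMap.range (dftIdem A N ζ j)) : ℂ) =
      (Module.finrank ℂ (LinearMap.range (dftIdem B N ζ j)) : ℂ) := by
    rw [h1, h2]
    congr 1
    exact Finset.sum_congr rfl fun m _ => by rw [h m]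
  have h4 : Module.finrank ℂ (LinearMap.range (dftIdem A N ζ j)) =
      Module.finrank ℂ (LinearMap.range (dftIdem B N ζ j)) := by exact_mod_cast h3
  rw [h4]

end DetTrace

end Cfsg.Agent.Helper6
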