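import Cfsg.Prelude.Def_CharExt
import Cfsg.Agent.Helper6.DetTrace
import Cfsg.Agent.Helper2.CharLinear
import Cfsg.Agent.Helper24.LinearChar
import Cfsg.Agent.Helper24.CharValues

set_option autoImplicit false

namespace Cfsg.Agent.Helper6

open Cfsg

section DetChar

variable {G : Type*} [Group G] [Finite G]

/-- The determinantal character can be computed from any representation affording the
character. -/
theorem detChar_eq {n : ℕ} (ρ : Representation ℂ G (Fin n → ℂ)) (g : G) :
    detChar ρ.character g = LinearMap.det (ρ g) := by
  have h : IsCharacter G ρ.character := ⟨n, ρ, rfl⟩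
  unfold detChar
  rw [dif_pos h]
  have hspec := Classical.choose_spec (Classical.choose_spec h)
  apply det_eq_of_trace_pow_eq _ _ (Nat.card G) Nat.card_pos
  · rw [← map_pow, pow_card_eq_one', map_one]
  · rw [← map_pow, pow_card_eq_one', map_one]
  · intro m
    rw [← map_pow, ← map_pow]
    exact congrFun hspec (g ^ m)

/-- The determinantal character of a character is a linear character. -/
theorem detChar_isLinear {χ : G → ℂ} (hχ : IsCharacter G χ) :
    IsCharacter G (detChar χ) ∧ detChar χ 1 = 1 := by
  obtain ⟨n, ρ, rfl⟩ := hχ
  let δ : G →* ℂˣ :=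
    (Units.map (LinearMap.det : Module.End ℂ (Fin n → ℂ) →* ℂ)).comp ρ.toHomUnits
  have h1 : detChar ρ.character = fun g => ((δ g : ℂˣ) : ℂ) := by
    funext g
    rw [detChar_eq]
    rfl
  rw [h1]
  exact ⟨Helper2.isCharacter_of_hom δ, by simp⟩

/-- The determinantal character commutes with pullback along homomorphisms. -/
theorem detChar_comp {K : Type*} [Group K] [Finite K] (f : K →* G) {χ : G → ℂ}
    (hχ : IsCharacter G χ) : detChar (χ ∘ f) = detChar χ ∘ f := by
  obtain ⟨n, ρ, rfl⟩ := hχ
  funext k
  have h1 : ρ.character ∘ f = Representation.character (ρ.comp f : Representation ℂ K (Fin n → ℂ)) :=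
    rfl
  rw [h1, detChar_eq, Function.comp_apply, detChar_eq]
  rfl

theorem detChar_restrict (N : Subgroup G) {χ : G → ℂ} (hχ : IsCharacter G χ) :
    detChar (fun n : N => χ n) = fun n : N => detChar χ n :=
  detChar_comp N.subtype hχ

/-- The determinantal character of the product of a linear character with a character. -/
theorem detChar_linear_mul {β η : G → ℂ} (hβ : IsCharacter G β) (hβ1 : β 1 = 1)
    (hη : IsCharacter G η) (g : G) :
    detChar (β * η) g = β g ^ charDegree η * detChar η g := by
  have hdeg := Helper24.charDegree_spec hη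
  obtain ⟨n, ρ, rfl⟩ := hη
  have hn : charDegree ρ.character = n := by
    rw [Representation.char_one] at hdeg
    have : Module.finrank ℂ (Fin n → ℂ) = n := by simp
    rw [this] at hdeg
    exact_mod_cast hdeg.symm
  let σ : Representation ℂ G (Fin n → ℂ) :=
    { toFun := fun g => β g • ρ g
      map_one' := by rw [hβ1, one_smul, map_one]
      map_mul' := fun a b => by
        rw [Helper24.linear_char_mul hβ hβ1, map_mul, smul_mul_smul_comm] }
  have hσ : σ.character = β * ρ.character := by
    funext x
    show LinearMap.trace ℂ _ (β x • ρ x) = β x * LinearMap.trace ℂ _ (ρ x)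
    rw [map_smul, smul_eq_mul]
  rw [← hσ, detChar_eq, detChar_eq, hn]
  show LinearMap.det (β g • ρ g) = _
  rw [LinearMap.det_smul]
  simp

end DetChar

end Cfsg.Agent.Helper6
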