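import Cfsg.Agent.Helper25.CharPow
import Cfsg.Agent.Helper6.Clifford
import Cfsg.Agent.Helper10.IndLemmas
import Cfsg.Agent.Helper2.CharConstituent
import Cfsg.Agent.Helper2.CharLinear
import Cfsg.Agent.Helper6.Inertia
import Cfsg.Agent.Helper6.LinChar
import Cfsg.Agent.Helper13.IndReal
import Cfsg.Agent.Helper13.CentralOver
import Cfsg.Agent.S0854

set_option autoImplicit false

universe u

namespace Cfsg.Agent.Helper6.GalProd

open Cfsg
open scoped ComplexConjugate

section

variable {G : Type u} [Group G] [Fintype G]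

/-- Reindexing the inner product along a power map coprime to the group order. -/
theorem classInner_pow_pow {k : ℕ} (hk : Nat.Coprime k (Nat.card G)) (A B : G → ℂ) :
    classInner (fun g => A (g ^ k)) (fun g => B (g ^ k)) = classInner A B := by
  unfold classInner
  congr 1
  exact Equiv.sum_comp (powCoprime hk.symm) (fun g => A g * conj (B g))

theorem classInner_split_left (A B c : G → ℂ) :
    classInner A B = classInner c B + classInner (A - c) B := by
  have e : A = c + (A - c) := by
    funext t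
    simp
  calc classInner A B = classInner (c + (A - c)) B := by rw [← e]
    _ = classInner c B + classInner (A - c) B := Helper2.classInner_add_left _ _ _

theorem classInner_split_self (f c : G → ℂ) :
    classInner f f = classInner c f + classInner (f - c) c + classInner (f - c) (f - c) := by
  have e : f = c + (f - c) := by
    funext t
    simp
  calc classInner f f = classInner c f + classInner (f - c) f := classInner_split_left f f c
    _ = classInner c f + classInner (f - c) (c + (f - c)) := by rw [← e]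
    _ = classInner c f + classInner (f - c) c + classInner (f - c) (f - c) := by
        rw [Helper2.classInner_add_right]
        ring

theorem gp_norm {χ : G → ℂ} {k : ℕ} :
    classInner (fun g => χ g * χ (g ^ k)) (fun g => χ g * χ (g ^ k)) =
      classInner (fun g => χ g * conj (χ g)) (fun g => χ (g ^ k) * conj (χ (g ^ k))) := by
  unfold classInner
  congr 1
  refine Finset.sum_congr rfl fun g _ => ?_
  rw [map_mul, map_mul, Complex.conj_conj]
  ring

theorem gp_isCharacter_X {χ : G → ℂ} (hχ : IsCharacter G χ) :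
    IsCharacter G (fun g => χ g * conj (χ g)) :=
  Helper2.IsCharacter.mul hχ (Helper2.isCharacter_conj hχ)

theorem gp_isCharacter_Y {χ : G → ℂ} (hχ : IsIrrCharacter G χ) {k : ℕ}
    (hk : Nat.Coprime k (Nat.card G)) :
    IsCharacter G (fun g => χ (g ^ k) * conj (χ (g ^ k))) :=
  gp_isCharacter_X (Helper24.isCharacter_of_irr (Helper25.isIrrCharacter_pow hk hχ))

theorem gp_X_one {χ : G → ℂ} (hχ : IsIrrCharacter G χ) :
    classInner (fun g => χ g * conj (χ g)) (fun _ => (1 : ℂ)) = 1 := by
  have h1 := Helper2.classInner_irr hχ hχ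
  rw [if_pos rfl] at h1
  have e : classInner (fun g => χ g * conj (χ g)) (fun _ => (1 : ℂ)) = classInner χ χ := by
    unfold classInner
    congr 1
    refine Finset.sum_congr rfl fun g _ => ?_
    rw [map_one, mul_one]
  rw [e, h1]

theorem gp_Y_one {χ : G → ℂ} (hχ : IsIrrCharacter G χ) {k : ℕ}
    (hk : Nat.Coprime k (Nat.card G)) :
    classInner (fun g => χ (g ^ k) * conj (χ (g ^ k))) (fun _ => (1 : ℂ)) = 1 := by
  have h := classInner_pow_pow hk (fun g => χ g * conj (χ g)) (fun _ => (1 : ℂ))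
  rw [gp_X_one hχ] at h
  exact h

/-- A character whose product with a Galois conjugate is irreducible is primitive. -/
theorem gp_primitive {χ : G → ℂ} (hχ : IsIrrCharacter G χ) {k : ℕ}
    (hk : Nat.Coprime k (Nat.card G)) (hirr : IsIrrCharacter G (fun g => χ g * χ (g ^ k)))
    (T : Subgroup G) [Fintype T] {φ : T → ℂ} (hφ : IsIrrCharacter T φ)
    (hind : indFun T φ = χ) : T = ⊤ := by
  classical
  by_contra hT
  have hχc := Helper24.isCharacter_of_irr hχ
  have hχcf := Helper2.IsCharacter.isClassFunction hχc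
  have hφc := Helper24.isCharacter_of_irr hφ
  have hXc := gp_isCharacter_X hχc
  have hYc := gp_isCharacter_Y hχ hk
  have hYcf := Helper2.IsCharacter.isClassFunction hYc
  have h1 : classInner (fun g => χ g * conj (χ g)) (fun g => χ (g ^ k) * conj (χ (g ^ k))) = 1 := by
    rw [← gp_norm]
    have := Helper2.classInner_irr hirr hirr
    rwa [if_pos rfl] at this
  -- X is induced
  have hXind : (fun g => χ g * conj (χ g)) = indFun T (φ * fun t : T => conj (χ t)) := by
    rw [indFun_mul_res T φ (χ := fun g => conj (χ g)) (Helper2.IsClassFunction.conj hχcf), hind]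
    rfl
  have hAc : IsCharacter T (φ * fun t : T => conj (χ t)) :=
    Helper2.IsCharacter.mul hφc (Helper24.isCharacter_restrict T (Helper2.isCharacter_conj hχc))
  have hBc : IsCharacter T (fun t : T => χ ((t : G) ^ k) * conj (χ ((t : G) ^ k))) :=
    Helper24.isCharacter_restrict T hYc
  have h2 : classInner (φ * fun t : T => conj (χ t))
      (fun t : T => χ ((t : G) ^ k) * conj (χ ((t : G) ^ k))) = 1 := by
    rw [← h1, hXind]
    exact (Helper2.frobenius_reciprocity T _ _ hYcf).symm
  -- [φ, χ_T] = 1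
  have hφχ : classInner φ (fun t : T => χ t) = 1 := by
    rw [← Helper2.frobenius_reciprocity T φ χ hχcf, hind]
    have := Helper2.classInner_irr hχ hχ
    rwa [if_pos rfl] at this
  have hA1 : classInner (φ * fun t : T => conj (χ t)) (fun _ => (1 : ℂ)) = 1 := by
    have e : classInner (φ * fun t : T => conj (χ t)) (fun _ => (1 : ℂ))
        = classInner φ (fun t : T => χ t) := by
      unfold classInner
      congr 1
      refine Finset.sum_congr rfl fun t _ => ?_
      rw [Pi.mul_apply, map_one, mul_one]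
    rw [e, hφχ]
  have h1irr : IsIrrCharacter T (fun _ => (1 : ℂ)) := Helper2.isIrrCharacter_one_fun
  have hA'c := Helper2.isCharacter_sub_of_constituent hAc h1irr (by rw [hA1]; exact one_ne_zero)
  obtain ⟨m, hm⟩ := Helper2.classInner_char_nat hA'c hBc
  -- [B, 1] = [χ_T, χ_T]
  have hkT : Nat.Coprime k (Nat.card T) :=
    Nat.Coprime.coprime_dvd_right (Subgroup.card_subgroup_dvd_card T) hk
  have hB1 : classInner (fun t : T => χ ((t : G) ^ k) * conj (χ ((t : G) ^ k)))
      (fun _ => (1 : ℂ)) = classInner (fun t : T => χ t) (fun t : T => χ t) := by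
    have h := classInner_pow_pow hkT (fun t : T => χ t * conj (χ t)) (fun _ => (1 : ℂ))
    have e : classInner (fun t : T => χ t * conj (χ t)) (fun _ => (1 : ℂ))
        = classInner (fun t : T => χ t) (fun t : T => χ t) := by
      unfold classInner
      congr 1
      refine Finset.sum_congr rfl fun t _ => ?_
      rw [map_one, mul_one]
    rw [← e, ← h]
    rfl
  -- Δ = χ_T - φ
  have hresc : IsCharacter T (fun t : T => χ t) := Helper24.isCharacter_restrict T hχc
  have hχφ : classInner (fun t : T => χ t) φ = 1 := by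
    rw [← Helper2.classInner_conj_symm, hφχ, map_one]
  have hΔc := Helper2.isCharacter_sub_of_constituent hresc hφ (by rw [hχφ]; exact one_ne_zero)
  obtain ⟨n₂, hn₂⟩ := Helper2.classInner_char_nat hΔc hφc
  obtain ⟨n₃, hn₃⟩ := Helper2.classInner_char_nat hΔc hΔc
  have hn₃0 : n₃ ≠ 0 := by
    intro h0
    rw [h0, Nat.cast_zero] at hn₃
    have hz := Helper10.classInner_self_eq_zero hn₃
    have h1' := congrFun hz 1
    rw [Pi.sub_apply, Pi.zero_apply, Subgroup.coe_one, ← hind, Helper2.indFun_apply_one] at h1'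
    have hφ1 : φ 1 ≠ 0 := Helper24.irr_one_ne_zero hφ
    have h3 : ((T.index : ℂ) - 1) * φ 1 = 0 := by linear_combination h1'
    rcases mul_eq_zero.1 h3 with h4 | h4
    · have h5 : (T.index : ℂ) = 1 := by linear_combination h4
      have h6 : T.index = 1 := by exact_mod_cast h5
      exact hT (Subgroup.index_eq_one.1 h6)
    · exact hφ1 h4
  have hself : classInner (fun t : T => χ t) (fun t : T => χ t) = 1 + (n₂ : ℂ) + (n₃ : ℂ) := by
    rw [classInner_split_self (fun t : T => χ t) φ, hφχ, hn₂, hn₃]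
  -- assemble
  have h3 : classInner (φ * fun t : T => conj (χ t))
      (fun t : T => χ ((t : G) ^ k) * conj (χ ((t : G) ^ k)))
      = classInner (fun _ => (1 : ℂ)) (fun t : T => χ ((t : G) ^ k) * conj (χ ((t : G) ^ k)))
        + (m : ℂ) := by
    rw [classInner_split_left _ _ (fun _ => (1 : ℂ)), hm]
  rw [h2, ← Helper2.classInner_conj_symm, hB1, hself] at h3
  simp only [map_add, map_one, map_natCast] at h3
  have h4 : (n₂ : ℂ) + (n₃ : ℂ) + (m : ℂ) = 0 := by linear_combination -h3
  have h5 : n₂ + n₃ + m = 0 := by exact_mod_cast h4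
  omega

theorem sum_hom_eq_zero_of_ne {I : Type*} [Group I] [Fintype I] (ν : I →* ℂˣ) (y : I)
    (hy : ν y ≠ 1) : ∑ x : I, ((ν x : ℂˣ) : ℂ) = 0 := by
  have h : ((ν y : ℂˣ) : ℂ) * ∑ x : I, ((ν x : ℂˣ) : ℂ) = ∑ x : I, ((ν x : ℂˣ) : ℂ) := by
    rw [Finset.mul_sum]
    rw [← Equiv.sum_comp (Equiv.mulLeft y) (fun x => ((ν x : ℂˣ) : ℂ))]
    refine Finset.sum_congr rfl fun x _ => ?_
    rw [Equiv.coe_mulLeft, map_mul, Units.val_mul]
  have h2 : (((ν y : ℂˣ) : ℂ) - 1) * ∑ x : I, ((ν x : ℂˣ) : ℂ) = 0 := by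
    linear_combination h
  rcases mul_eq_zero.1 h2 with h3 | h3
  · exfalso
    apply hy
    apply Units.ext
    rw [Units.val_one]
    linear_combination h3
  · exact h3

/-- A linear character of a subgroup off whose kernel `χ` vanishes, and which induces
irreducibly, is trivial. -/
theorem gp_linear {χ : G → ℂ} (hχ : IsIrrCharacter G χ) {k : ℕ}
    (hk : Nat.Coprime k (Nat.card G)) (hirr : IsIrrCharacter G (fun g => χ g * χ (g ^ k)))
    (I : Subgroup G) [Fintype I] (ν : I →* ℂˣ) (hvan : ∀ x : I, ν x ≠ 1 → χ x = 0)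
    (hM : IsIrrCharacter G (indFun I (fun x => ((ν x : ℂˣ) : ℂ)))) : ∀ x : I, ν x = 1 := by
  classical
  by_contra hne
  push Not at hne
  obtain ⟨y, hy⟩ := hne
  have hχc := Helper24.isCharacter_of_irr hχ
  have hχcf := Helper2.IsCharacter.isClassFunction hχc
  have hXc := gp_isCharacter_X hχc
  have hXcf := Helper2.IsCharacter.isClassFunction hXc
  have hYc := gp_isCharacter_Y hχ hk
  have h1 : classInner (fun g => χ g * conj (χ g)) (fun g => χ (g ^ k) * conj (χ (g ^ k))) = 1 := by
    rw [← gp_norm]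
    have := Helper2.classInner_irr hirr hirr
    rwa [if_pos rfl] at this
  have hβ : IsIrrCharacter G (fun g => indFun I (fun x => ((ν x : ℂˣ) : ℂ)) (g ^ k)) :=
    Helper25.isIrrCharacter_pow hk hM
  have hβc := Helper24.isCharacter_of_irr hβ
  have h1irr : IsIrrCharacter G (fun _ => (1 : ℂ)) := Helper2.isIrrCharacter_one_fun
  -- c = [χ_I, χ_I]
  have hresc : IsCharacter I (fun t : I => χ t) := Helper24.isCharacter_restrict I hχc
  obtain ⟨n, hn⟩ := Helper2.classInner_char_nat hresc hresc
  have hn0 : n ≠ 0 := by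
    intro h0
    rw [h0, Nat.cast_zero] at hn
    have hz := Helper10.classInner_self_eq_zero hn
    have h1' := congrFun hz 1
    exact Helper24.irr_one_ne_zero hχ h1'
  have hMX : classInner (indFun I (fun x => ((ν x : ℂˣ) : ℂ))) (fun g => χ g * conj (χ g))
      = (n : ℂ) := by
    rw [Helper2.frobenius_reciprocity I _ _ hXcf, ← hn]
    unfold classInner
    congr 1
    refine Finset.sum_congr rfl fun x _ => ?_
    beta_reduce
    by_cases hx : ν x = 1
    · rw [hx, Units.val_one, one_mul, map_mul, Complex.conj_conj, mul_comm]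
    · rw [hvan x hx]
      simp
  have hβX : classInner (fun g => indFun I (fun x => ((ν x : ℂˣ) : ℂ)) (g ^ k))
      (fun g => χ g * conj (χ g)) = (n : ℂ) := by
    have e : (fun g => indFun I (fun x => ((ν x : ℂˣ) : ℂ)) (g ^ k))
        = indFun I (fun x : I => ((ν (x ^ k) : ℂˣ) : ℂ)) := by
      funext g
      exact Helper25.indFun_pow hk I _ g
    rw [e, Helper2.frobenius_reciprocity I _ _ hXcf, ← hn]
    unfold classInner
    congr 1
    refine Finset.sum_congr rfl fun x _ => ?_
    beta_reduce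
    by_cases hx : ν x = 1
    · rw [map_pow, hx, one_pow, Units.val_one, one_mul, map_mul, Complex.conj_conj, mul_comm]
    · rw [hvan x hx]
      simp
  have hβY : classInner (fun g => indFun I (fun x => ((ν x : ℂˣ) : ℂ)) (g ^ k))
      (fun g => χ (g ^ k) * conj (χ (g ^ k))) = (n : ℂ) := by
    rw [← hMX]
    exact classInner_pow_pow hk (indFun I (fun x => ((ν x : ℂˣ) : ℂ)))
      (fun g => χ g * conj (χ g))
  have hβ1 : classInner (fun g => indFun I (fun x => ((ν x : ℂˣ) : ℂ)) (g ^ k))
      (fun _ => (1 : ℂ)) = 0 := by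
    have e := classInner_pow_pow hk (indFun I (fun x => ((ν x : ℂˣ) : ℂ))) (fun _ => (1 : ℂ))
    rw [e, Helper2.frobenius_reciprocity I _ _ (fun _ _ => rfl)]
    unfold classInner
    have e2 : ∑ x : I, ((ν x : ℂˣ) : ℂ) * conj (1 : ℂ) = ∑ x : I, ((ν x : ℂˣ) : ℂ) := by
      refine Finset.sum_congr rfl fun x _ => ?_
      rw [map_one, mul_one]
    rw [e2, sum_hom_eq_zero_of_ne ν y hy, mul_zero]
  have hβne : (fun _ : G => (1 : ℂ)) ≠ (fun g => indFun I (fun x => ((ν x : ℂˣ) : ℂ)) (g ^ k)) := by
    intro h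
    have h2 := Helper2.classInner_irr hβ h1irr
    rw [if_pos h.symm, hβ1] at h2
    exact zero_ne_one h2
  have h1β : classInner (fun _ : G => (1 : ℂ))
      (fun g => indFun I (fun x => ((ν x : ℂˣ) : ℂ)) (g ^ k)) = 0 := by
    rw [Helper2.classInner_irr h1irr hβ, if_neg hβne]
  -- X₁ = X - 1
  have hX1 := gp_X_one hχ
  have hX₁c := Helper2.isCharacter_sub_of_constituent hXc h1irr (by rw [hX1]; exact one_ne_zero)
  have hXβ : classInner (fun g => χ g * conj (χ g))
      (fun g => indFun I (fun x => ((ν x : ℂˣ) : ℂ)) (g ^ k)) = (n : ℂ) := by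
    rw [← Helper2.classInner_conj_symm, hβX, map_natCast]
  have hX₁β : classInner ((fun g => χ g * conj (χ g)) - fun _ => (1 : ℂ))
      (fun g => indFun I (fun x => ((ν x : ℂˣ) : ℂ)) (g ^ k)) = (n : ℂ) := by
    rw [Helper2.classInner_sub_left, hXβ, h1β, sub_zero]
  have hX₂c := Helper2.isCharacter_sub_of_constituent hX₁c hβ
    (by rw [hX₁β]; exact_mod_cast hn0)
  obtain ⟨m, hm⟩ := Helper2.classInner_char_nat hX₂c hYc
  have hY1 := gp_Y_one hχ hk
  have h1Y : classInner (fun _ : G => (1 : ℂ)) (fun g => χ (g ^ k) * conj (χ (g ^ k))) = 1 := by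
    rw [← Helper2.classInner_conj_symm, hY1, map_one]
  have h3 := classInner_split_left (fun g => χ g * conj (χ g))
    (fun g => χ (g ^ k) * conj (χ (g ^ k))) (fun _ => (1 : ℂ))
  have h4 := classInner_split_left ((fun g => χ g * conj (χ g)) - fun _ => (1 : ℂ))
    (fun g => χ (g ^ k) * conj (χ (g ^ k)))
    (fun g => indFun I (fun x => ((ν x : ℂˣ) : ℂ)) (g ^ k))
  rw [h4, hβY, hm, h1, h1Y] at h3
  have h5 : (n : ℂ) + (m : ℂ) = 0 := by linear_combination -h3
  have h6 : n + m = 0 := by exact_mod_cast h5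
  omega

/-- Abelian normal subgroups are central. -/
theorem gp_abelian_central {χ : G → ℂ} (hχ : IsIrrCharacter G χ)
    (hfaith : ∀ g : G, χ g = χ 1 → g = 1) {k : ℕ}
    (hk : Nat.Coprime k (Nat.card G)) (hirr : IsIrrCharacter G (fun g => χ g * χ (g ^ k)))
    (A : Subgroup G) [hA : A.Normal] (hcomm : ∀ a b : A, a * b = b * a) :
    A ≤ Subgroup.center G := by
  classical
  haveI : Fintype A := Fintype.ofFinite A
  have hχc := Helper24.isCharacter_of_irr hχ
  have hχcf := Helper2.IsCharacter.isClassFunction hχc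
  have hresc : IsCharacter A (fun a : A => χ a) := Helper24.isCharacter_restrict A hχc
  have hres0 : (fun a : A => χ a) ≠ 0 := by
    intro h
    exact Helper24.irr_one_ne_zero hχ (congrFun h 1)
  obtain ⟨lam, hlam, hcon⟩ := Helper2.exists_irr_constituent
    (Helper2.IsCharacter.isClassFunction hresc) hres0
  have hlamc := Helper24.isCharacter_of_irr hlam
  haveI : Fintype (inertia A lam) := Fintype.ofFinite _
  obtain ⟨ψ, hψ, hind, -⟩ := Cfsg.Agent.S0854.result A lam hlam (inertia A lam)
    (mem_inertia A lam) (le_inertia A (Helper2.IsCharacter.isClassFunction hlamc)) χ hχ hcon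
  have hT := gp_primitive hχ hk hirr (inertia A lam) hψ hind
  have hinv : ∀ (g : G) (n : A), lam ⟨g * n * g⁻¹, hA.conj_mem (n : G) n.2 g⟩ = lam n := by
    intro g
    have hg : g ∈ inertia A lam := by rw [hT]; exact Subgroup.mem_top g
    exact (mem_inertia A lam g).1 hg
  have hsm := res_eq_smul_of_invariant A hlam hinv hχ hcon
  have hl1 : lam 1 = 1 := Helper2.irr_abelian_linear hcomm hlam
  have hmul := Helper6.linear_char_mul lam hlamc hl1
  intro a ha
  rw [Subgroup.mem_center_iff]
  intro g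
  have hc : lam (⟨a, ha⟩ * ⟨g * (⟨a, ha⟩ : A)⁻¹ * g⁻¹, hA.conj_mem _ (A.inv_mem ha) g⟩) = 1 := by
    rw [hmul]
    have := hinv g (⟨a, ha⟩ : A)⁻¹
    rw [this, ← hmul, mul_inv_cancel, hl1]
  have h1 := congrFun hsm (⟨a, ha⟩ * ⟨g * (⟨a, ha⟩ : A)⁻¹ * g⁻¹, hA.conj_mem _ (A.inv_mem ha) g⟩)
  have h2 := congrFun hsm 1
  rw [Pi.smul_apply, hc] at h1
  rw [Pi.smul_apply, hl1] at h2
  have h3 := hfaith _ (h1.trans h2.symm)
  have h4 : a * (g * a⁻¹ * g⁻¹) = 1 := h3
  have h5 : a * g = g * a := by
    have : a * g = a * (g * a⁻¹ * g⁻¹) * g * a := by group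
    rw [this, h4, one_mul]
  exact h5.symm

/-- Nilpotent normal subgroups are central. -/
theorem gp_nilpotent_central {χ : G → ℂ} (hχ : IsIrrCharacter G χ)
    (hfaith : ∀ g : G, χ g = χ 1 → g = 1) {k : ℕ}
    (hk : Nat.Coprime k (Nat.card G)) (hirr : IsIrrCharacter G (fun g => χ g * χ (g ^ k)))
    (N : Subgroup G) [hN : N.Normal] (hnil : Group.IsNilpotent N) :
    N ≤ Subgroup.center G := by
  classical
  by_contra hNZ
  have hχc := Helper24.isCharacter_of_irr hχ
  have hχcf := Helper2.IsCharacter.isClassFunction hχc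
  have hA : N ⊓ Subgroup.centralizer (N : Set G) ≤ Subgroup.center G := by
    haveI : (N ⊓ Subgroup.centralizer (N : Set G)).Normal := inferInstance
    apply gp_abelian_central hχ hfaith hk hirr
    intro a b
    apply Subtype.ext
    have ha := a.2.2
    have hb := b.2.1
    exact (Subgroup.mem_centralizer_iff.1 ha b hb).symm
  have hP : ∃ e ∈ N, e ∉ Subgroup.center G ∧
      ∀ m ∈ N, e * m * e⁻¹ * m⁻¹ ∈ Subgroup.center G := by
    by_contra hP
    push Not at hP
    have key : ∀ i : ℕ, ∀ x : N, x ∈ Subgroup.upperCentralSeries N i → (x : G) ∈ Subgroup.center G := by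
      intro i
      induction i with
      | zero =>
        intro x hx
        rw [Subgroup.upperCentralSeries_zero, Subgroup.mem_bot] at hx
        rw [hx]
        exact Subgroup.one_mem _
      | succ i ih =>
        intro x hx
        by_contra hxc
        obtain ⟨m, hm, hm2⟩ := hP x x.2 hxc
        apply hm2
        have := Subgroup.mem_upperCentralSeries_succ_iff.1 hx ⟨m, hm⟩
        exact ih _ this
    obtain ⟨n, hn⟩ := hnil.nilpotent'
    apply hNZ
    intro x hx
    exact key n ⟨x, hx⟩ (by rw [hn]; exact Subgroup.mem_top _)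
  obtain ⟨e, heN, heZ, hem⟩ := hP
  obtain ⟨c, hc⟩ : ∃ c : G → G, ∀ g, c g = g * e * g⁻¹ * e⁻¹ := ⟨fun g => g * e * g⁻¹ * e⁻¹, fun _ => rfl⟩
  have hc1 : c 1 = 1 := by rw [hc]; group
  have hc_mul : ∀ g h : G, c h ∈ Subgroup.center G → c (g * h) = c h * c g := by
    intro g h hh
    have h1 : c (g * h) = g * c h * e * g⁻¹ * e⁻¹ := by rw [hc, hc]; group
    have h2 : g * c h = c h * g := Subgroup.mem_center_iff.1 hh g
    rw [h1, h2, hc g]
    group
  have hc_inv : ∀ g : G, c g ∈ Subgroup.center G → c g⁻¹ = (c g)⁻¹ := by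
    intro g hg
    have h1 := hc_mul g⁻¹ g hg
    rw [inv_mul_cancel, hc1] at h1
    exact (inv_eq_of_mul_eq_one_right h1.symm).symm
  obtain ⟨I, hI⟩ : ∃ I : Subgroup G, ∀ g, g ∈ I ↔ c g ∈ Subgroup.center G := by
    refine ⟨{ carrier := {g | c g ∈ Subgroup.center G}
              mul_mem' := ?_
              one_mem' := ?_
              inv_mem' := ?_ }, fun g => Iff.rfl⟩
    · intro a b ha hb
      show c (a * b) ∈ Subgroup.center G
      rw [hc_mul a b hb]
      exact Subgroup.mul_mem _ hb ha
    · show c 1 ∈ Subgroup.center G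
      rw [hc1]
      exact Subgroup.one_mem _
    · intro a ha
      show c a⁻¹ ∈ Subgroup.center G
      rw [hc_inv a ha]
      exact Subgroup.inv_mem _ ha
  haveI : Fintype N := Fintype.ofFinite N
  haveI : Fintype I := Fintype.ofFinite I
  obtain ⟨μ, hμ⟩ := Helper13.exists_central_hom (Subgroup.center G) le_rfl hχ
  have hμinj : ∀ z : Subgroup.center G, μ z = 1 → (z : G) = 1 := by
    intro z hz
    have h1 := hμ 1 z
    rw [hz, Units.val_one, one_mul, one_mul] at h1
    exact hfaith _ h1
  have hμinj2 : ∀ z w : Subgroup.center G, μ z = μ w → (z : G) = (w : G) := by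
    intro z w hzw
    have h1 : μ (z * w⁻¹) = 1 := by rw [map_mul, map_inv, hzw, mul_inv_cancel]
    have h2 := hμinj _ h1
    have h3 : (z : G) * (w : G)⁻¹ = 1 := h2
    exact mul_inv_eq_one.1 h3
  have hNI : N ≤ I := by
    intro m hm
    rw [hI]
    have h1 : c m = (e * m * e⁻¹ * m⁻¹)⁻¹ := by rw [hc]; group
    rw [h1]
    exact Subgroup.inv_mem _ (hem m hm)
  let ν : I →* ℂˣ :=
    { toFun := fun x => μ ⟨c x, (hI x).1 x.2⟩
      map_one' := by
        have : (⟨c ((1 : I) : G), (hI _).1 (1 : I).2⟩ : Subgroup.center G) = 1 := by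
          apply Subtype.ext
          exact hc1
        rw [this, map_one]
      map_mul' := by
        intro x y
        have : (⟨c ((x * y : I) : G), (hI _).1 (x * y).2⟩ : Subgroup.center G)
            = ⟨c y, (hI y).1 y.2⟩ * ⟨c x, (hI x).1 x.2⟩ := by
          apply Subtype.ext
          exact hc_mul x y ((hI y).1 y.2)
        rw [this, map_mul, mul_comm] }
  have hνapp : ∀ x : I, ν x = μ ⟨c x, (hI x).1 x.2⟩ := fun _ => rfl
  have hvan : ∀ x : I, ν x ≠ 1 → χ x = 0 := by
    intro x hx
    have hz := (hI x).1 x.2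
    have h1 := hμ x ⟨c x, hz⟩
    rw [← hνapp] at h1
    have h2 : (x : G) * c x = e⁻¹ * x * e⁻¹⁻¹ := by
      have hze : e * c x = c x * e := Subgroup.mem_center_iff.1 hz e
      have hzx : (x : G) * c x = c x * x := Subgroup.mem_center_iff.1 hz x
      have h3 : e⁻¹ * (x : G) * e⁻¹⁻¹ = e⁻¹ * (c x * e) * x := by rw [hc]; group
      rw [h3, ← hze, hzx]
      group
    have h4 : χ ((x : G) * c x) = χ x := by
      rw [h2]
      exact hχcf x e⁻¹
    have h5 : χ ((x : G) * c x) = ((ν x : ℂˣ) : ℂ) * χ x := h1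
    rw [h4] at h5
    have h6 : (((ν x : ℂˣ) : ℂ) - 1) * χ x = 0 := by linear_combination -h5
    rcases mul_eq_zero.1 h6 with h7 | h7
    · exfalso
      apply hx
      apply Units.ext
      rw [Units.val_one]
      linear_combination h7
    · exact h7
  have hνirr : IsIrrCharacter I (fun x => ((ν x : ℂˣ) : ℂ)) := Helper2.isIrrCharacter_of_hom ν
  have hφirr : IsIrrCharacter N (fun n : N => ((ν (Subgroup.inclusion hNI n) : ℂˣ) : ℂ)) :=
    Helper2.isIrrCharacter_of_hom (ν.comp (Subgroup.inclusion hNI))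
  have hIiff : ∀ g : G, g ∈ I ↔
      conjFun N g (fun n : N => ((ν (Subgroup.inclusion hNI n) : ℂˣ) : ℂ))
        = (fun n : N => ((ν (Subgroup.inclusion hNI n) : ℂˣ) : ℂ)) := by
    intro g
    constructor
    · intro hg
      funext n
      rw [conjFun_apply]
      have hgc := (hI g).1 hg
      have hnc := (hI n).1 (hNI n.2)
      have hgi := hc_inv g hgc
      have hgic : c g⁻¹ ∈ Subgroup.center G := by rw [hgi]; exact Subgroup.inv_mem _ hgc
      have h1 : c (g * n * g⁻¹) = c n := by
        rw [hc_mul (g * n) g⁻¹ hgic, hc_mul g n hnc, hgi]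
        have h2 : (c g)⁻¹ * c n = c n * (c g)⁻¹ := Subgroup.mem_center_iff.1 hnc _
        rw [← mul_assoc, h2, mul_assoc, inv_mul_cancel, mul_one]
      show ((μ ⟨c (g * n * g⁻¹), _⟩ : ℂˣ) : ℂ) = ((μ ⟨c n, _⟩ : ℂˣ) : ℂ)
      congr 3
    · intro h
      rw [hI]
      have hcn : ∀ n : N, c (g * n * g⁻¹) = c n := by
        intro n
        have h1 := congrFun h n
        rw [conjFun_apply] at h1
        have h2 : μ ⟨c (g * n * g⁻¹), (hI _).1 (hNI (hN.conj_mem n n.2 g))⟩
            = μ ⟨c n, (hI _).1 (hNI n.2)⟩ := Units.ext h1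
        exact hμinj2 _ _ h2
      have hw : e⁻¹ * (g⁻¹ * e * g) ∈ N ⊓ Subgroup.centralizer (N : Set G) := by
        refine ⟨N.mul_mem (N.inv_mem heN) ?_, ?_⟩
        · have := hN.conj_mem e heN g⁻¹
          rwa [inv_inv] at this
        · apply Subgroup.mem_centralizer_iff.2
          intro n hn
          have hz := (hI n).1 (hNI hn)
          have h1 := hcn ⟨n, hn⟩
          have h2 : n * (g⁻¹ * e * g) * n⁻¹ = c n * (g⁻¹ * e * g) := by
            have h3 : n * (g⁻¹ * e * g) * n⁻¹ = g⁻¹ * c (g * n * g⁻¹) * e * g := by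
              rw [hc]; group
            have h4 : g⁻¹ * c n = c n * g⁻¹ := Subgroup.mem_center_iff.1 hz g⁻¹
            rw [h3, h1, h4]
            group
          have h5 : n * e * n⁻¹ = c n * e := by rw [hc]; group
          have h6 : n * (e⁻¹ * (g⁻¹ * e * g)) * n⁻¹ = e⁻¹ * (g⁻¹ * e * g) := by
            have h7 : n * (e⁻¹ * (g⁻¹ * e * g)) * n⁻¹
                = (n * e * n⁻¹)⁻¹ * (n * (g⁻¹ * e * g) * n⁻¹) := by group
            rw [h7, h2, h5]
            group
          calc n * (e⁻¹ * (g⁻¹ * e * g)) = n * (e⁻¹ * (g⁻¹ * e * g)) * n⁻¹ * n := by group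
            _ = e⁻¹ * (g⁻¹ * e * g) * n := by rw [h6]
      have hwc := hA hw
      have h8 : c g = (e * g) * (e⁻¹ * (g⁻¹ * e * g))⁻¹ * (e * g)⁻¹ := by rw [hc]; group
      rw [h8]
      exact (inferInstance : (Subgroup.center G).Normal).conj_mem _ (Subgroup.inv_mem _ hwc) _
  have hM := (Helper13.ind_ext_irr N hφirr I hIiff hNI hνirr (fun n => rfl)).1
  have hall := gp_linear hχ hk hirr I ν hvan hM
  apply heZ
  apply hA
  refine ⟨heN, ?_⟩
  apply Subgroup.mem_centralizer_iff.2
  intro m hm
  have h1 := hall ⟨m, hNI hm⟩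
  rw [hνapp] at h1
  have h2 : c m = 1 := hμinj _ h1
  rw [hc] at h2
  have h3 : m * e = m * e * m⁻¹ * e⁻¹ * e * m := by group
  rw [h3, h2, one_mul]

end

theorem gp_main {G : Type u} [Group G] [Finite G] (χ : Cfsg.IrrCharacter G)
    (hfaith : ∀ g : G, (χ : G → ℂ) g = (χ : G → ℂ) 1 → g = 1) (k : ℕ)
    (hk : Nat.Coprime k (Nat.card G))
    (hirr : Cfsg.IsIrrCharacter G (fun g => (χ : G → ℂ) g * (χ : G → ℂ) (g ^ k))) :
    Cfsg.fittingSubgroup G = Subgroup.center G := by
  classical
  haveI := Fintype.ofFinite G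
  apply le_antisymm
  · apply sSup_le
    rintro N ⟨hN, hnil⟩
    haveI := hN
    exact gp_nilpotent_central χ.2 hfaith hk hirr N hnil
  · apply le_sSup
    refine ⟨inferInstance, ?_⟩
    let _ : CommGroup (Subgroup.center G) :=
      { (inferInstance : Group (Subgroup.center G)) with
        mul_comm := fun a b => Subtype.ext (Subgroup.mem_center_iff.mp b.2 a) }
    infer_instance

end Cfsg.Agent.Helper6.GalProd
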