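import Cfsg.Agent.Helper25.DCBlock
import Cfsg.Agent.Helper25.HeightZero2
import Cfsg.Agent.Helper25.GaloisConj2
import Cfsg.Agent.Helper25.FirstMain1
import Cfsg.Agent.S0925
import Cfsg.Agent.S4491

set_option autoImplicit false
set_option linter.unusedSectionVars false

/-!
# Central p-subgroups and characters of maximal p-part degree (helper6)
-/

namespace Cfsg.Agent.Helper6

open Cfsg
open scoped ComplexConjugate

section Laradji

variable {G : Type*} [Group G] [Fintype G]

theorem lar_central_mul (χ : IrrCharacter G) (z g : G) (hz : z ∈ Subgroup.center G) :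
    (χ : G → ℂ) 1 * (χ : G → ℂ) (z * g) = (χ : G → ℂ) z * (χ : G → ℂ) g := by
  apply Helper25.irr_mul_of_central_prod χ.2
  intro t
  exact ⟨t, 1, (mul_one t).symm, (Subgroup.mem_center_iff.1 hz) t, Commute.one_left g⟩

theorem lar_normSq_central (χ : IrrCharacter G) (z : G) (hz : z ∈ Subgroup.center G) :
    Complex.normSq ((χ : G → ℂ) z) = Complex.normSq ((χ : G → ℂ) 1) := by
  have h1 := lar_central_mul χ z z⁻¹ hz
  rw [mul_inv_cancel, Helper24.char_inv (Helper24.isCharacter_of_irr χ.2), Complex.mul_conj] at h1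
  have h2 := Helper24.charDegree_spec (Helper24.isCharacter_of_irr χ.2)
  rw [h2] at h1 ⊢
  rw [Complex.normSq_natCast]
  exact_mod_cast h1.symm

theorem lar_normSq_mul (χ : IrrCharacter G) (z g : G) (hz : z ∈ Subgroup.center G) :
    Complex.normSq ((χ : G → ℂ) (z * g)) = Complex.normSq ((χ : G → ℂ) g) := by
  have h1 := congrArg Complex.normSq (lar_central_mul χ z g hz)
  rw [Complex.normSq_mul, Complex.normSq_mul, lar_normSq_central χ z hz] at h1
  have h0 : Complex.normSq ((χ : G → ℂ) 1) ≠ 0 := by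
    rw [Ne, Complex.normSq_eq_zero]
    exact Helper24.irr_one_ne_zero χ.2
  exact mul_left_cancel₀ h0 h1

theorem lar_sum_normSq (χ : IrrCharacter G) :
    ∑ g : G, Complex.normSq ((χ : G → ℂ) g) = (Nat.card G : ℝ) := by
  have h := Helper25.row_orth χ χ
  rw [if_pos rfl] at h
  apply Complex.ofReal_injective
  rw [Complex.ofReal_sum, Complex.ofReal_natCast, ← h]
  refine Finset.sum_congr rfl fun g _ => ?_
  rw [Complex.mul_conj]

variable {M : Ideal AlgInt} {p : ℕ} [Fact p.Prime]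

theorem lar_inner_eq (χ : IrrCharacter G) :
    classInner (Helper25.tildeFun p (χ : G → ℂ)) (χ : G → ℂ)
      = (Nat.card G : ℂ)⁻¹ * (((p ^ (Nat.card G).factorization p : ℕ) : ℂ)
        * ((∑ y : G, if p ∣ orderOf y then 0 else Complex.normSq ((χ : G → ℂ) y) : ℝ) : ℂ)) := by
  classical
  unfold classInner
  congr 1
  rw [Complex.ofReal_sum, Finset.mul_sum]
  refine Finset.sum_congr rfl fun g _ => ?_
  by_cases hg : p ∣ orderOf g
  · simp only [Helper25.tildeFun, if_pos hg, zero_mul, Complex.ofReal_zero, mul_zero]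
  · simp only [Helper25.tildeFun, if_neg hg]
    rw [mul_assoc, Complex.mul_conj]

theorem lar_inner_eq' (χ ξ : IrrCharacter G) :
    classInner (Helper25.tildeFun p (χ : G → ℂ)) (ξ : G → ℂ)
      = (Nat.card G : ℂ)⁻¹ * (((p ^ (Nat.card G).factorization p : ℕ) : ℂ)
        * conj (∑ y : G, if p ∣ orderOf y then 0
            else (ξ : G → ℂ) y * conj ((χ : G → ℂ) y))) := by
  classical
  unfold classInner
  congr 1
  rw [map_sum, Finset.mul_sum]
  refine Finset.sum_congr rfl fun g _ => ?_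
  by_cases hg : p ∣ orderOf g
  · simp only [Helper25.tildeFun, if_pos hg, zero_mul, map_zero, mul_zero]
  · simp only [Helper25.tildeFun, if_neg hg, map_mul, Complex.conj_conj]
    ring

theorem lar_hreg (D : Subgroup G) (hDZ : D ≤ Subgroup.center G) :
    ∀ y : G, ¬ p ∣ orderOf y → y ∈ Subgroup.centralizer (D : Set G) := by
  intro y _
  rw [Subgroup.mem_centralizer_iff]
  intro h hh
  exact ((Subgroup.mem_center_iff.1 (hDZ hh)) y).symm

open Classical in
theorem lar_count (D : Subgroup G) (hD : IsPGroup p D) (hDZ : D ≤ Subgroup.center G)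
    (χ : IrrCharacter G) :
    (Nat.card D : ℝ) * (∑ y : G, if p ∣ orderOf y then 0
        else Complex.normSq ((χ : G → ℂ) y))
      = ∑ g : G, if (∃ x ∈ D, IsPPart p g x) then Complex.normSq ((χ : G → ℂ) g) else 0 := by
  classical
  haveI : Fintype D := Fintype.ofFinite D
  have key := Helper25.sum_section_normal D hD (lar_hreg D hDZ)
    (fun g => ((if (∃ x ∈ D, IsPPart p g x) then Complex.normSq ((χ : G → ℂ) g) else 0 : ℝ) : ℂ))
    ?_
  · apply Complex.ofReal_injective
    rw [Complex.ofReal_sum, key, Complex.ofReal_mul, Complex.ofReal_natCast,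
      Nat.card_eq_fintype_card, ← Finset.card_univ, ← nsmul_eq_mul, ← Finset.sum_const]
    refine Finset.sum_congr rfl fun d _ => ?_
    rw [Complex.ofReal_sum]
    refine Finset.sum_congr rfl fun y _ => ?_
    by_cases hy : p ∣ orderOf y
    · rw [if_pos hy, if_pos hy, Complex.ofReal_zero]
    · rw [if_neg hy, if_neg hy, if_pos, lar_normSq_mul χ d y (hDZ d.2)]
      exact ⟨d, d.2, (Helper25.isPPart_mul_iff (d : G) y).2
        ⟨((Subgroup.mem_center_iff.1 (hDZ d.2)) y).symm, Helper25.orderOf_mem_pgroup hD d.2, hy⟩⟩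
  · intro g y hy hyD
    rw [if_neg, Complex.ofReal_zero]
    rintro ⟨x, hx, hgx⟩
    exact hyD (Helper25.isPPart_unique hgx hy ▸ hx)

theorem lar_deg_split (D : Subgroup G) (χ : IrrCharacter G)
    (hdeg : (charDegree (χ : G → ℂ)).factorization p = D.index.factorization p) :
    ∃ r : ℕ, ¬ p ∣ r ∧ (χ : G → ℂ) 1 = ((p ^ D.index.factorization p : ℕ) : ℂ) * (r : ℂ) := by
  have hp : p.Prime := Fact.out
  refine ⟨charDegree (χ : G → ℂ) / p ^ (charDegree (χ : G → ℂ)).factorization p,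
    Nat.not_dvd_ordCompl hp (Helper25.charDegree_irr_ne_zero χ), ?_⟩
  rw [Helper24.charDegree_spec (Helper24.isCharacter_of_irr χ.2), ← hdeg, ← Nat.cast_mul,
    Nat.ordProj_mul_ordCompl_eq_self]

theorem lar_main (hpM : IsPModular p M) (D : Subgroup G) (hD : IsPGroup p D)
    (hDZ : D ≤ Subgroup.center G) (χ : IrrCharacter G)
    (hdeg : (charDegree (χ : G → ℂ)).factorization p = D.index.factorization p) :
    (∀ g x : G, IsPPart p g x → x ∉ D → (χ : G → ℂ) g = 0) ∧
      classInner (Helper25.tildeFun p (χ : G → ℂ)) (χ : G → ℂ)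
        = ((p ^ D.index.factorization p : ℕ) : ℂ) := by
  classical
  have hp : p.Prime := Fact.out
  have hM := hpM.2.1.isPrime
  obtain ⟨d, hd⟩ := hD.exists_card_eq
  have hcard : Nat.card D * D.index = Nat.card G := Subgroup.card_mul_index D
  have hidx : D.index ≠ 0 := Subgroup.index_ne_zero_of_finite
  obtain ⟨ν, hν⟩ : ∃ ν, ν = D.index.factorization p := ⟨_, rfl⟩
  obtain ⟨a, ha⟩ : ∃ a, a = (Nat.card G).factorization p := ⟨_, rfl⟩
  have hadν : a = d + ν := by
    rw [ha, ← hcard, Nat.factorization_mul (Nat.card_pos.ne') hidx, hd, Finsupp.add_apply,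
      hp.factorization_pow, Finsupp.single_eq_same, hν]
  obtain ⟨r, hpr, hχ1⟩ := lar_deg_split (p := p) D χ hdeg
  rw [← hν] at hχ1
  have hp0 : (p : ℂ) ≠ 0 := Nat.cast_ne_zero.2 hp.ne_zero
  have hr0 : (r : ℂ) ≠ 0 := by
    rw [Nat.cast_ne_zero]
    rintro rfl
    exact hpr (dvd_zero p)
  obtain ⟨n, hn⟩ : ∃ n : ℤ,
      classInner (Helper25.tildeFun p (χ : G → ℂ)) (χ : G → ℂ) = (n : ℂ) :=
    ⟨_, Helper25.tildeFun_inner χ χ⟩
  have hloc := Helper25.tildeRatio_memLocalRing hpM χ χ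
  have hdvd : (p : ℤ) ^ ν ∣ n := by
    apply Helper25.pow_dvd_of_memLocalRing_div hpM ν n
    have h2 := Helper25.MemLocalRing.mul hM hloc (Helper25.memLocalRing_natCast hM.ne_top r)
    have h3 : classInner (Helper25.tildeFun p (χ : G → ℂ)) (χ : G → ℂ) / (χ : G → ℂ) 1 * (r : ℂ)
        = (n : ℂ) / (p : ℂ) ^ ν := by
      rw [hn, hχ1]
      push_cast
      field_simp
    rwa [h3] at h2
  obtain ⟨S, hS⟩ : ∃ S : ℝ, S = ∑ y : G, if p ∣ orderOf y then 0
      else Complex.normSq ((χ : G → ℂ) y) := ⟨_, rfl⟩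
  have hin := lar_inner_eq (p := p) χ
  rw [← hS, hn, ← ha] at hin
  have hGpos : (0 : ℝ) < Nat.card G := by exact_mod_cast Nat.card_pos
  have hnS : (n : ℝ) * (Nat.card G : ℝ) = (p : ℝ) ^ a * S := by
    apply Complex.ofReal_injective
    push_cast
    rw [hin]
    have : (Nat.card G : ℂ) ≠ 0 := by exact_mod_cast hGpos.ne'
    field_simp
    push_cast
    ring
  have hSpos : 0 < S := by
    rw [hS]
    apply Finset.sum_pos'
    · intro g _
      split_ifs
      · exact le_refl _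
      · exact Complex.normSq_nonneg _
    · refine ⟨1, Finset.mem_univ _, ?_⟩
      rw [if_neg (by rw [orderOf_one]; exact hp.not_dvd_one)]
      exact Complex.normSq_pos.2 (Helper24.irr_one_ne_zero χ.2)
  have hppos : (0 : ℝ) < (p : ℝ) := by exact_mod_cast hp.pos
  have hnpos : 0 < n := by
    have h1 : (0 : ℝ) < (n : ℝ) * (Nat.card G : ℝ) := by
      rw [hnS]
      positivity
    have h2 : (0 : ℝ) < (n : ℝ) := by
      by_contra hcon
      push_neg at hcon
      nlinarith
    exact_mod_cast h2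
  have hnge : (p : ℤ) ^ ν ≤ n := Int.le_of_dvd hnpos hdvd
  have hnge' : (p : ℝ) ^ ν ≤ (n : ℝ) := by exact_mod_cast hnge
  have hDr : (Nat.card D : ℝ) = (p : ℝ) ^ d := by
    rw [hd]
    push_cast
    rfl
  have hcount := lar_count D hD hDZ χ
  rw [← hS] at hcount
  have htot := lar_sum_normSq χ
  have hle : ∑ g : G, (if (∃ x ∈ D, IsPPart p g x) then Complex.normSq ((χ : G → ℂ) g) else 0)
      ≤ ∑ g : G, Complex.normSq ((χ : G → ℂ) g) := by
    apply Finset.sum_le_sum
    intro g _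
    split_ifs
    · exact le_refl _
    · exact Complex.normSq_nonneg _
  have h1 : (p : ℝ) ^ d * S ≤ (Nat.card G : ℝ) := by
    rw [← hDr, hcount, ← htot]
    exact hle
  have h2 : (p : ℝ) ^ ν * (Nat.card G : ℝ) ≤ (p : ℝ) ^ ν * ((p : ℝ) ^ d * S) := by
    calc (p : ℝ) ^ ν * (Nat.card G : ℝ) ≤ (n : ℝ) * (Nat.card G : ℝ) :=
          mul_le_mul_of_nonneg_right hnge' hGpos.le
      _ = (p : ℝ) ^ a * S := hnS
      _ = (p : ℝ) ^ ν * ((p : ℝ) ^ d * S) := by
          rw [hadν, pow_add]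
          ring
  have hpν : (0 : ℝ) < (p : ℝ) ^ ν := by positivity
  have h3 : (Nat.card G : ℝ) ≤ (p : ℝ) ^ d * S := le_of_mul_le_mul_left h2 hpν
  have heq : (p : ℝ) ^ d * S = (Nat.card G : ℝ) := le_antisymm h1 h3
  constructor
  · intro g x hgx hxD
    have hsum0 : ∑ g : G, (Complex.normSq ((χ : G → ℂ) g)
        - (if (∃ x ∈ D, IsPPart p g x) then Complex.normSq ((χ : G → ℂ) g) else 0)) = 0 := by
      rw [Finset.sum_sub_distrib, htot, ← hcount, hDr, heq, sub_self]
    have hz := (Finset.sum_eq_zero_iff_of_nonneg (fun g _ => ?_)).1 hsum0 g (Finset.mem_univ g)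
    · rw [if_neg, sub_zero, Complex.normSq_eq_zero] at hz
      · exact hz
      · rintro ⟨x', hx', hgx'⟩
        exact hxD (Helper25.isPPart_unique hgx' hgx ▸ hx')
    · split_ifs
      · rw [sub_self]
      · rw [sub_zero]
        exact Complex.normSq_nonneg _
  · rw [hn, ← hν]
    have h4 : (n : ℝ) * (Nat.card G : ℝ) = (p : ℝ) ^ ν * (Nat.card G : ℝ) := by
      rw [hnS, hadν, pow_add, ← heq]
      ring
    have h5 : (n : ℝ) = (p : ℝ) ^ ν := mul_right_cancel₀ hGpos.ne' h4
    have h6 : ((n : ℝ) : ℂ) = (((p : ℝ) ^ ν : ℝ) : ℂ) := by rw [h5]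
    push_cast at h6 ⊢
    exact h6

theorem lar_inner_ne (hpM : IsPModular p M) (D : Subgroup G) (hD : IsPGroup p D)
    (hDZ : D ≤ Subgroup.center G) (χ : IrrCharacter G)
    (hdeg : (charDegree (χ : G → ℂ)).factorization p = D.index.factorization p)
    (ξ : IrrCharacter G) (hξ : SameBlock M (χ : G → ℂ) (ξ : G → ℂ)) :
    classInner (Helper25.tildeFun p (χ : G → ℂ)) (ξ : G → ℂ) ≠ 0 := by
  intro h0
  have hp : p.Prime := Fact.out
  have hM := hpM.2.1.isPrime
  have h1 := Helper25.tildeRatio_sub_mem hpM χ hξ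
  rw [h0, zero_div, sub_zero, (lar_main hpM D hD hDZ χ hdeg).2] at h1
  obtain ⟨r, hpr, hχ1⟩ := lar_deg_split (p := p) D χ hdeg
  have h2 := Helper25.MemLocalIdeal.mul_left hM (Helper25.memLocalRing_natCast hM.ne_top r) h1
  have hp0 : (p : ℂ) ≠ 0 := Nat.cast_ne_zero.2 hp.ne_zero
  have hr0 : (r : ℂ) ≠ 0 := by
    rw [Nat.cast_ne_zero]
    rintro rfl
    exact hpr (dvd_zero p)
  have h3 : (r : ℂ) * (((p ^ D.index.factorization p : ℕ) : ℂ) / (χ : G → ℂ) 1) = 1 := by
    rw [hχ1]
    push_cast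
    field_simp
  rw [h3] at h2
  exact Helper25.not_memLocalIdeal_one h2

theorem lar_sum_D (hpM : IsPModular p M) (D : Subgroup G) [Fintype D] (hD : IsPGroup p D)
    (hDZ : D ≤ Subgroup.center G) (χ : IrrCharacter G)
    (hdeg : (charDegree (χ : G → ℂ)).factorization p = D.index.factorization p)
    (ξ : IrrCharacter G) (hξ : SameBlock M (χ : G → ℂ) (ξ : G → ℂ)) (hne : ξ ≠ χ) :
    ∑ z : D, (ξ : G → ℂ) z * conj ((χ : G → ℂ) z) = 0 := by
  classical
  have hvan := (lar_main hpM D hD hDZ χ hdeg).1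
  have key := Helper25.sum_section_normal D hD (lar_hreg D hDZ)
    (fun g => (ξ : G → ℂ) g * conj ((χ : G → ℂ) g))
    (fun g y hy hyD => by rw [hvan g y hy hyD, map_zero, mul_zero])
  rw [Helper25.row_orth ξ χ, if_neg hne] at key
  have hR : (∑ y : G, if p ∣ orderOf y then 0
      else (ξ : G → ℂ) y * conj ((χ : G → ℂ) y)) ≠ 0 := by
    intro hR0
    apply lar_inner_ne hpM D hD hDZ χ hdeg ξ hξ
    rw [lar_inner_eq', hR0, map_zero, mul_zero, mul_zero]
  have hprod : (ξ : G → ℂ) 1 * (χ : G → ℂ) 1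
      * (∑ d : D, ∑ y : G, if p ∣ orderOf y then 0
          else (ξ : G → ℂ) ((d : G) * y) * conj ((χ : G → ℂ) ((d : G) * y)))
      = (∑ z : D, (ξ : G → ℂ) z * conj ((χ : G → ℂ) z))
        * (∑ y : G, if p ∣ orderOf y then 0 else (ξ : G → ℂ) y * conj ((χ : G → ℂ) y)) := by
    rw [Finset.mul_sum, Finset.sum_mul]
    refine Finset.sum_congr rfl fun d _ => ?_
    rw [Finset.mul_sum, Finset.mul_sum]
    refine Finset.sum_congr rfl fun y _ => ?_
    by_cases hy : p ∣ orderOf y
    · rw [if_pos hy, if_pos hy, mul_zero, mul_zero]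
    · rw [if_neg hy, if_neg hy]
      have e1 := lar_central_mul ξ d y (hDZ d.2)
      have e2 := lar_central_mul χ d y (hDZ d.2)
      have e3 := congrArg conj e2
      rw [map_mul, map_mul, Helper25.irr_one_conj] at e3
      linear_combination ((χ : G → ℂ) 1 * conj ((χ : G → ℂ) ((d : G) * y))) * e1
        + ((ξ : G → ℂ) d * (ξ : G → ℂ) y) * e3
  rw [← key, mul_zero] at hprod
  exact (mul_eq_zero.1 hprod.symm).resolve_right hR

theorem lar_sum_sq (hpM : IsPModular p M) (D : Subgroup G) (hD : IsPGroup p D)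
    (hDZ : D ≤ Subgroup.center G) (χ : IrrCharacter G)
    (hdeg : (charDegree (χ : G → ℂ)).factorization p = D.index.factorization p) :
    ∑ᶠ ξ ∈ blockOf M (χ : G → ℂ), charDegree (ξ : G → ℂ) ^ 2
      = Nat.card D * charDegree (χ : G → ℂ) ^ 2 := by
  classical
  have := Helper24.finite_irrCharacter (G := G)
  haveI : Fintype (IrrCharacter G) := Fintype.ofFinite _
  haveI : Fintype D := Fintype.ofFinite D
  have hp : p.Prime := Fact.out
  have hM := hpM.2.1.isPrime
  obtain ⟨B, hB⟩ : ∃ B, B = blockOf M (χ : G → ℂ) := ⟨_, rfl⟩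
  have hBblock : IsPBlock M B := ⟨χ, hB⟩
  have hχB : χ ∈ B := by
    rw [hB]
    exact Helper25.mem_blockOf_self hM.ne_top χ
  rw [← hB]
  have hW1 : ∑ z : D, conj ((χ : G → ℂ) z) * ∑ ξ : IrrCharacter G,
        (if ξ ∈ B then (ξ : G → ℂ) z * (ξ : G → ℂ) 1 else 0)
      = (χ : G → ℂ) 1 * ∑ ξ : IrrCharacter G,
        (if ξ ∈ B then (ξ : G → ℂ) 1 * (ξ : G → ℂ) 1 else 0) := by
    rw [Finset.sum_eq_single (1 : D)]
    · rw [Subgroup.coe_one, Helper25.irr_one_conj]
    · intro z _ hz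
      have hzG : (z : G) ≠ 1 := fun h => hz (Subtype.ext h)
      have h1 := (Cfsg.Agent.S0925.result p M hpM).2 (z : G) 1 (z : G) 1 ?_ ?_ ?_ B hBblock
      · rw [Helper25.finsum_mem_eq_sum_ite] at h1
        simp only [inv_one] at h1
        rw [h1, mul_zero]
      · exact ⟨1, mul_one _, Commute.one_right _, Helper25.orderOf_mem_pgroup hD z.2,
          by rw [orderOf_one]; exact hp.not_dvd_one⟩
      · exact ⟨1, mul_one _, Commute.one_right _, ⟨0, by rw [orderOf_one, pow_zero]⟩,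
          by rw [orderOf_one]; exact hp.not_dvd_one⟩
      · rw [isConj_one_left]
        exact hzG
    · intro h
      exact absurd (Finset.mem_univ _) h
  have hW2 : ∑ z : D, conj ((χ : G → ℂ) z) * ∑ ξ : IrrCharacter G,
        (if ξ ∈ B then (ξ : G → ℂ) z * (ξ : G → ℂ) 1 else 0)
      = (χ : G → ℂ) 1 * ((Nat.card D : ℂ) * ((χ : G → ℂ) 1 * (χ : G → ℂ) 1)) := by
    have e1 : ∀ z : D, conj ((χ : G → ℂ) z) * ∑ ξ : IrrCharacter G,
          (if ξ ∈ B then (ξ : G → ℂ) z * (ξ : G → ℂ) 1 else 0)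
        = ∑ ξ : IrrCharacter G, (if ξ ∈ B then (ξ : G → ℂ) 1
            * ((ξ : G → ℂ) z * conj ((χ : G → ℂ) z)) else 0) := by
      intro z
      rw [Finset.mul_sum]
      refine Finset.sum_congr rfl fun ξ _ => ?_
      split_ifs
      · ring
      · rw [mul_zero]
    rw [Finset.sum_congr rfl (fun z _ => e1 z), Finset.sum_comm]
    rw [Finset.sum_eq_single χ]
    · simp only [if_pos hχB]
      rw [← Finset.mul_sum]
      congr 1
      have e2 : ∀ z : D, (χ : G → ℂ) z * conj ((χ : G → ℂ) z)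
          = (χ : G → ℂ) 1 * (χ : G → ℂ) 1 := by
        intro z
        rw [Complex.mul_conj, lar_normSq_central χ z (hDZ z.2), ← Complex.mul_conj,
          Helper25.irr_one_conj]
      rw [Finset.sum_congr rfl (fun z _ => e2 z), Finset.sum_const, Finset.card_univ,
        nsmul_eq_mul, Nat.card_eq_fintype_card]
    · intro ξ _ hξ
      by_cases hξB : ξ ∈ B
      · simp only [if_pos hξB]
        rw [← Finset.mul_sum, lar_sum_D hpM D hD hDZ χ hdeg ξ (by rw [hB] at hξB; exact hξB) hξ,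
          mul_zero]
      · simp only [if_neg hξB]
        exact Finset.sum_const_zero
    · intro h
      exact absurd (Finset.mem_univ _) h
  have hχ0 := Helper24.irr_one_ne_zero χ.2
  have hfin : ∑ ξ : IrrCharacter G, (if ξ ∈ B then (ξ : G → ℂ) 1 * (ξ : G → ℂ) 1 else 0)
      = (Nat.card D : ℂ) * ((χ : G → ℂ) 1 * (χ : G → ℂ) 1) :=
    mul_left_cancel₀ hχ0 (hW1.symm.trans hW2)
  rw [Helper25.finsum_mem_eq_sum_ite_nat]
  have hcast : ((∑ ξ : IrrCharacter G, (if ξ ∈ B then charDegree (ξ : G → ℂ) ^ 2 else 0) : ℕ) : ℂ)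
      = ((Nat.card D * charDegree (χ : G → ℂ) ^ 2 : ℕ) : ℂ) := by
    rw [Nat.cast_sum, Nat.cast_mul, Nat.cast_pow, sq, ← Helper25.irr_one_eq_degree χ, ← hfin]
    refine Finset.sum_congr rfl fun ξ _ => ?_
    split_ifs
    · rw [Nat.cast_pow, sq, Helper25.irr_one_eq_degree ξ]
    · rw [Nat.cast_zero]
  exact_mod_cast hcast

theorem lar_defect (hpM : IsPModular p M) (D : Subgroup G) (hD : IsPGroup p D)
    (hDZ : D ≤ Subgroup.center G) (χ : IrrCharacter G)
    (hdeg : (charDegree (χ : G → ℂ)).factorization p = D.index.factorization p) :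
    blockDefect p (blockOf M (χ : G → ℂ)) = (Nat.card D).factorization p := by
  have hp : p.Prime := Fact.out
  have h1 := Cfsg.Agent.S4491.result p M hpM (blockOf M (χ : G → ℂ)) ⟨χ, rfl⟩
  rw [lar_sum_sq hpM D hD hDZ χ hdeg] at h1
  have hdeg0 := Helper25.charDegree_irr_ne_zero χ
  rw [Nat.factorization_mul Nat.card_pos.ne' (pow_ne_zero 2 hdeg0), Nat.factorization_pow,
    Finsupp.add_apply, Finsupp.smul_apply, hdeg, smul_eq_mul] at h1
  have hcard : Nat.card D * D.index = Nat.card G := Subgroup.card_mul_index D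
  have hidx : D.index ≠ 0 := Subgroup.index_ne_zero_of_finite
  have h2 : (Nat.card G).factorization p
      = (Nat.card D).factorization p + D.index.factorization p := by
    rw [← hcard, Nat.factorization_mul Nat.card_pos.ne' hidx, Finsupp.add_apply]
  have h3 : blockDefect p (blockOf M (χ : G → ℂ)) ≤ (Nat.card G).factorization p := by
    unfold blockDefect
    exact Nat.sub_le _ _
  omega

end Laradji

end Cfsg.Agent.Helper6
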